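import Cfsg.Agent.PushRankOne.Run
import Cfsg.Agent.Core.Solvable

/-!
# An abelian offender covers `S / O_p(G)`
-/

set_option autoImplicit false
set_option linter.unusedSectionVars false

namespace Cfsg.Agent.PushRankOne

open Subgroup
open Cfsg.Agent.Offender (cj mem_cj act emb)
open scoped commutatorElement

variable {G : Type*} [Group G] [Finite G] {p : ℕ} [Fact p.Prime]
  {S : Sylow p G} {M K : Subgroup G}

namespace Ground

variable {V : Subgroup G} {z : G} (hg : Ground p S V z) (h : Setup₀ p S M K)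

include hg h

theorem exists_minimal (A : Subgroup G) (hAQ : ¬ A ≤ Cfsg.pCore p G)
    (hbound : Nat.card V * Nat.card (A ⊓ Cfsg.pCore p G : Subgroup G) ≤
      Nat.card A * Nat.card (V ⊓ centralizer (A : Set G) : Subgroup G)) :
    ∃ B ≤ A, A ⊓ Cfsg.pCore p G ≤ B ∧ ¬ B ≤ Cfsg.pCore p G ∧
      Nat.card V * Nat.card (B ⊓ Cfsg.pCore p G : Subgroup G) ≤
        Nat.card B * Nat.card (V ⊓ centralizer (B : Set G) : Subgroup G) ∧
      ∀ B₁ : Subgroup G, B₁ ≤ B → B ⊓ Cfsg.pCore p G ≤ B₁ → ¬ B₁ ≤ Cfsg.pCore p G →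
        B₁ ≠ B → Nat.card B₁ * Nat.card (V ⊓ centralizer (B₁ : Set G) : Subgroup G) <
          Nat.card B * Nat.card (V ⊓ centralizer (B : Set G) : Subgroup G) := by
  obtain ⟨B, ⟨hBA, hAB, hBQ, hBb⟩, hmin⟩ := Set.exists_min_image
    {B : Subgroup G | B ≤ A ∧ A ⊓ Cfsg.pCore p G ≤ B ∧ ¬ B ≤ Cfsg.pCore p G ∧
      Nat.card V * Nat.card (B ⊓ Cfsg.pCore p G : Subgroup G) ≤
        Nat.card B * Nat.card (V ⊓ centralizer (B : Set G) : Subgroup G)}
    (fun B => Nat.card B) (Set.toFinite _) ⟨A, le_rfl, inf_le_left, hAQ, hbound⟩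
  refine ⟨B, hBA, hAB, hBQ, hBb, fun B₁ h1 h2 h3 h4 => ?_⟩
  by_contra hge
  push Not at hge
  have he : B₁ ⊓ Cfsg.pCore p G = B ⊓ Cfsg.pCore p G :=
    le_antisymm (inf_le_inf_right _ h1) (le_inf h2 inf_le_right)
  refine h4 (eq_of_le_of_card_ge h1 (hmin B₁ ⟨h1.trans hBA,
    (le_inf (inf_le_left) inf_le_right : A ⊓ Cfsg.pCore p G ≤ A ⊓ Cfsg.pCore p G).trans
      ((le_inf hAB inf_le_right).trans (h2.trans le_rfl)), h3, ?_⟩))
  rw [he]
  exact hBb.trans hge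

theorem exists_cover (B : Subgroup G) (hBS : B ≤ S)
    (hBQ : ¬ B ≤ Cfsg.pCore p G)
    (hbound : Nat.card V * Nat.card (B ⊓ Cfsg.pCore p G : Subgroup G) ≤
      Nat.card B * Nat.card (V ⊓ centralizer (B : Set G) : Subgroup G))
    (hstrict : ∀ B₁ : Subgroup G, B₁ ≤ B → B ⊓ Cfsg.pCore p G ≤ B₁ → ¬ B₁ ≤ Cfsg.pCore p G →
      B₁ ≠ B → Nat.card B₁ * Nat.card (V ⊓ centralizer (B₁ : Set G) : Subgroup G) <
        Nat.card B * Nat.card (V ⊓ centralizer (B : Set G) : Subgroup G))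
    {t : G} (ht : t ∈ (S : Subgroup G)) : ∃ a ∈ B, a⁻¹ * t ∈ Cfsg.pCore p G := by
  haveI := hg.hVn
  set σ := act V with hσ
  have hVcomm : ∀ {u v : G}, u ∈ V → v ∈ V → u * v = v * u := fun {u v} hu hv =>
    mem_centralizer_iff.1 ((Thompson.ea_iff.1 hg.hV).1 hv) u hu
  have hQC : Cfsg.pCore p G ≤ centralizer (V : Set G) := hg.hQ.ge.trans inf_le_right
  -- a minimal configuration
  obtain ⟨g₀, hg₀⟩ : ∃ g₀ : G, g₀ ∉ M := by
    by_contra hcon
    push Not at hcon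
    exact h.hM.1 (eq_top_iff.2 fun g _ => hcon g)
  obtain ⟨g, hgM, hmin⟩ := Set.exists_min_image {g : G | g ∉ M}
    (fun g => Nat.card ((B ⊔ cj g B).map σ)) (Set.toFinite _) ⟨g₀, hg₀⟩
  set L := B ⊔ cj g B with hL
  obtain ⟨x, hxL, hxM⟩ : ∃ x ∈ L, x ∉ M := by
    by_contra hcon
    push Not at hcon
    obtain ⟨a, ha, haQ⟩ := SetLike.not_le_iff_exists.1 hBQ
    refine h.conj_notMem (hBS ha) haQ hgM (hcon _ (mem_sup_right (mem_cj.2 ?_)))
    simpa [mul_assoc] using ha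
  have hker : σ.ker = centralizer (V : Set G) := Offender.act_ker
  have hgen : ∀ k ∈ L, k ∉ M → L ≤ (B ⊔ cj k B) ⊔ centralizer (V : Set G) := by
    intro k hk hkM
    rw [← hker, ← comap_map_eq, ← map_le_iff_le_comap]
    refine (eq_of_le_of_card_ge (map_mono (sup_le le_sup_left ?_)) (hmin k hkM)).ge
    intro c hc
    simpa [mul_assoc] using L.mul_mem (L.mul_mem hk (mem_sup_left (mem_cj.1 hc))) (L.inv_mem hk)
  obtain ⟨hcard, hdec, hreg, hquad⟩ :=
    hg.run h B hBS hBQ hbound hstrict L le_sup_left x hxL hxM hgen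
  set W := V ⊓ centralizer (B : Set G) with hWdef
  set D := V ⊓ centralizer (L : Set G) with hDdef
  have hDW : D ≤ W := inf_le_inf_left _ (Subgroup.centralizer_le (show B ≤ L from le_sup_left))
  have hDfix : ∀ {k c : G}, k ∈ L → c ∈ D → k * c * k⁻¹ = c := fun {k c} hk hc =>
    mul_inv_eq_iff_eq_mul.2 (mem_centralizer_iff.1 hc.2 k hk)
  have hWfix : ∀ {a w : G}, a ∈ B → w ∈ W → a * w * a⁻¹ = w := fun {a w} ha hw =>
    mul_inv_eq_iff_eq_mul.2 (mem_centralizer_iff.1 hw.2 a ha)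
  -- commutation with a point outside `W` covers `W` modulo `D`
  have hsurj : ∀ u ∈ V, u ∉ W → ∀ w ∈ W, ∃ a ∈ B, ∃ c ∈ D, (a * u * a⁻¹ * u⁻¹) * c = w := by
    intro u hu huW
    let f : ↥B →* G :=
      { toFun := fun a => (a : G) * u * (a : G)⁻¹ * u⁻¹
        map_one' := by simp
        map_mul' := fun a b => by
          have hfix := hWfix a.2 (hquad b b.2 u hu)
          rw [Subgroup.coe_mul, mul_inv_rev, hVcomm (hquad a a.2 u hu).1 (hquad b b.2 u hu).1]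
          conv_rhs => rw [← hfix]
          group }
    have hRW : f.range ≤ W := by
      rintro _ ⟨a, rfl⟩
      exact hquad a a.2 u hu
    have hRV : f.range ≤ centralizer (D : Set G) :=
      ((hRW.trans inf_le_left).trans (Thompson.ea_iff.1 hg.hV).1).trans
        (Subgroup.centralizer_le inf_le_left)
    have e1 := Thompson.card_sup_mul_card_inf_of_comm hRV
    have e2 : Nat.card f.ker * Nat.card f.range = Nat.card B := by
      rw [mul_comm, ← Nat.card_congr (QuotientGroup.quotientKerEquivRange f).toEquiv,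
        ← Subgroup.card_eq_card_quotient_mul_card_subgroup]
    have e3 : Nat.card (D.comap f) = Nat.card f.ker * Nat.card (f.range ⊓ D : Subgroup G) := by
      let g' := f.comp (D.comap f).subtype
      have h1 := Subgroup.card_eq_card_quotient_mul_card_subgroup g'.ker
      rw [Nat.card_congr (QuotientGroup.quotientKerEquivRange g').toEquiv] at h1
      have hr : g'.range = f.range ⊓ D := by
        ext y
        constructor
        · rintro ⟨a, rfl⟩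
          exact ⟨⟨(a : ↥B), rfl⟩, a.2⟩
        · rintro ⟨⟨a, rfl⟩, ha⟩
          exact ⟨⟨a, ha⟩, rfl⟩
      have hk : g'.ker = f.ker.subgroupOf (D.comap f) := rfl
      rw [hr, hk, Nat.card_congr (subgroupOfEquivOfLe (MonoidHom.ker_le_comap f D)).toEquiv] at h1
      rw [h1, mul_comm]
    have e4 : Nat.card (D.comap f) ≤ Nat.card (B ⊓ Cfsg.pCore p G : Subgroup G) := by
      refine Nat.card_le_card_of_injective
        (fun a : D.comap f => (⟨((a : ↥B) : G), ⟨(a : ↥B).2, ?_⟩⟩ : (B ⊓ Cfsg.pCore p G : Subgroup G))) ?_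
      · by_contra haQ
        exact huW (hreg _ (a : ↥B).2 haQ u hu a.2)
      · intro a b e
        exact Subtype.ext (Subtype.ext (congrArg Subtype.val e :))
    have hle : f.range ⊔ D ≤ W := sup_le hRW hDW
    have heq : f.range ⊔ D = W := by
      refine eq_of_le_of_card_ge hle ?_
      have hpos : 0 < Nat.card (B ⊓ Cfsg.pCore p G : Subgroup G) := Nat.card_pos
      refine Nat.le_of_mul_le_mul_right ?_ hpos
      calc Nat.card W * Nat.card (B ⊓ Cfsg.pCore p G : Subgroup G)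
          = Nat.card f.ker * (Nat.card f.range * Nat.card D) := by rw [hcard, ← e2]; ring
        _ = Nat.card (f.range ⊔ D : Subgroup G) * Nat.card (D.comap f) := by
            rw [← e1, e3]; ring
        _ ≤ _ := Nat.mul_le_mul_left _ e4
    intro w hw
    rw [← heq] at hw
    obtain ⟨_, ⟨a, rfl⟩, c, hc, e⟩ :=
      PMinOff.exists_mul_of_mem_sup (Thompson.ea_iff.1 hg.hV).1 (hRW.trans inf_le_left) inf_le_left hw
    exact ⟨a, a.2, c, hc, e⟩
  -- `S` normalises `W`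
  have hsame : ∀ {s a : G}, s ∈ (S : Subgroup G) → a ∈ B → ∀ v ∈ V,
      (s⁻¹ * a * s) * v * (s⁻¹ * a * s)⁻¹ = a * v * a⁻¹ := by
    intro s a hs ha v hv
    have hq : a⁻¹ * (s⁻¹ * a * s) ∈ Cfsg.pCore p G := by
      haveI := h.hK
      refine h.pCore_eq.ge ⟨(S : Subgroup G).mul_mem ((S : Subgroup G).inv_mem (hBS ha))
        ((S : Subgroup G).mul_mem ((S : Subgroup G).mul_mem ((S : Subgroup G).inv_mem hs) (hBS ha)) hs), ?_⟩
      have h1 := h.hK.conj_mem _ (h.comm a (hBS ha) s hs) (s * a)⁻¹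
      rw [inv_inv] at h1
      rw [show a⁻¹ * (s⁻¹ * a * s) = (s * a)⁻¹ * (a * s * (s * a)⁻¹) * (s * a) by group]
      exact h1
    have hc := mul_inv_eq_iff_eq_mul.2 (mem_centralizer_iff.1 (hQC hq) v hv).symm
    calc (s⁻¹ * a * s) * v * (s⁻¹ * a * s)⁻¹
        = a * ((a⁻¹ * (s⁻¹ * a * s)) * v * (a⁻¹ * (s⁻¹ * a * s))⁻¹) * a⁻¹ := by group
      _ = _ := by rw [hc]
  have hSW : ∀ {s w : G}, s ∈ (S : Subgroup G) → w ∈ W → s * w * s⁻¹ ∈ W := by
    intro s w hs hw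
    refine ⟨hg.hVn.conj_mem w hw.1 s, mem_centralizer_iff.2 fun a ha => mul_inv_eq_iff_eq_mul.1 ?_⟩
    calc a * (s * w * s⁻¹) * a⁻¹ = s * ((s⁻¹ * a * s) * w * (s⁻¹ * a * s)⁻¹) * s⁻¹ := by group
      _ = s * w * s⁻¹ := by rw [hsame hs ha w hw.1, hWfix ha hw]
  -- a point fixed modulo `W`
  have hzW : z ∈ W := ⟨hg.hzV, Subgroup.centralizer_le hBS hg.hzS⟩
  obtain ⟨v₀, hv₀, hv₀W, hv₀fix⟩ : ∃ v₀ ∈ V, v₀ ∉ W ∧
      ∀ s ∈ (S : Subgroup G), s * v₀ * s⁻¹ * v₀⁻¹ ∈ W := by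
    have hH : IsPGroup p (V ⊔ (S : Subgroup G) : Subgroup G) :=
      (Thompson.ea_isPGroup hg.hV).to_sup_of_normal_left S.2
    haveI : Group.IsNilpotent ↥(V ⊔ (S : Subgroup G) : Subgroup G) := hH.isNilpotent
    haveI hWn : (W.subgroupOf (V ⊔ (S : Subgroup G))).Normal := by
      refine normal_subgroupOf_of_le_normalizer (sup_le ?_ ?_)
      · refine Subgroup.le_normalizer_iff.mpr fun v hv w hw => ?_
        rw [hVcomm hv hw.1, mul_inv_cancel_right]; exact hw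
      · exact Subgroup.le_normalizer_iff.mpr fun s hs w hw => hSW hs hw
    let π := QuotientGroup.mk' (W.subgroupOf (V ⊔ (S : Subgroup G)))
    haveI : (V.subgroupOf (V ⊔ (S : Subgroup G))).Normal := hg.hVn.subgroupOf _
    haveI hVbn : ((V.subgroupOf (V ⊔ (S : Subgroup G))).map π).Normal :=
      Subgroup.Normal.map inferInstance π (QuotientGroup.mk'_surjective _)
    haveI : Group.IsNilpotent (↥(V ⊔ (S : Subgroup G) : Subgroup G) ⧸ W.subgroupOf (V ⊔ (S : Subgroup G))) :=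
      Group.nilpotent_of_surjective π (QuotientGroup.mk'_surjective _)
    have hne : (V.subgroupOf (V ⊔ (S : Subgroup G))).map π ≠ ⊥ := by
      intro e
      rw [Subgroup.map_eq_bot_iff, QuotientGroup.ker_mk'] at e
      obtain ⟨v, hv, hvW⟩ : ∃ v ∈ V, v ∉ W := by
        by_contra hcon
        push Not at hcon
        have hVW : V ≤ W := hcon
        refine hBQ fun a ha => hg.hQ.le ⟨hBS ha, mem_centralizer_iff.2 fun v hv => ?_⟩
        exact (mem_centralizer_iff.1 (hVW hv).2 a ha).symm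
      exact hvW (e (show (⟨v, mem_sup_left hv⟩ : ↥(V ⊔ (S : Subgroup G) : Subgroup G)) ∈ _ from hv))
    obtain ⟨⟨y, hy⟩, hy1⟩ := Subgroup.ne_bot_iff_exists_ne_one.1 (Core.inf_center_ne_bot hne)
    obtain ⟨v, hv, rfl⟩ := hy.1
    refine ⟨v, hv, fun hvW => hy1 (Subtype.ext ?_), fun s hs => ?_⟩
    · exact (QuotientGroup.eq_one_iff v).2 hvW
    · have hc := mem_center_iff.1 hy.2 (π ⟨s, mem_sup_right hs⟩)
      have h1 : π (⟨s, mem_sup_right hs⟩ * v * ⟨s, mem_sup_right hs⟩⁻¹ * v⁻¹) = 1 := by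
        rw [map_mul, map_mul, map_mul, map_inv, map_inv, hc]
        group
      exact (QuotientGroup.eq_one_iff (N := W.subgroupOf (V ⊔ (S : Subgroup G))) _).1 h1
  obtain ⟨w₀, hw₀, w₁, hw₁, hv₀eq⟩ := hdec v₀ hv₀
  obtain ⟨a₁, ha₁, c₁, hc₁, hw₁eq⟩ := hsurj v₀ hv₀ hv₀W w₁ hw₁
  obtain ⟨z₁, hz₁⟩ : ∃ z₁, z₁ = a₁ * v₀ * a₁⁻¹ * v₀⁻¹ := ⟨_, rfl⟩
  rw [← hz₁] at hw₁eq
  have hz₁V : z₁ ∈ V := hz₁ ▸ (hquad a₁ ha₁ v₀ hv₀).1
  have hz₁S : ∀ s ∈ (S : Subgroup G), s * z₁ * s⁻¹ = z₁ := by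
    intro s hs
    have e1 := hsame (S.inv_mem hs) ha₁ (s * v₀ * s⁻¹) (hg.hVn.conj_mem v₀ hv₀ s)
    rw [inv_inv] at e1
    have hw := hWfix ha₁ (hv₀fix s hs)
    calc s * z₁ * s⁻¹ = (s * a₁ * s⁻¹) * (s * v₀ * s⁻¹) * (s * a₁ * s⁻¹)⁻¹ * (s * v₀ * s⁻¹)⁻¹ := by
          rw [hz₁]; group
      _ = a₁ * (s * v₀ * s⁻¹ * v₀⁻¹ * v₀) * a₁⁻¹ * (s * v₀ * s⁻¹)⁻¹ := by
          rw [e1, inv_mul_cancel_right]
      _ = (a₁ * (s * v₀ * s⁻¹ * v₀⁻¹) * a₁⁻¹) * (a₁ * v₀ * a₁⁻¹) * (s * v₀ * s⁻¹)⁻¹ := by group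
      _ = (s * v₀ * s⁻¹ * v₀⁻¹) * (z₁ * v₀) * (s * v₀ * s⁻¹)⁻¹ := by
          rw [hw, hz₁, inv_mul_cancel_right]
      _ = (s * v₀ * s⁻¹ * v₀⁻¹) * z₁ * (s * v₀ * s⁻¹ * v₀⁻¹)⁻¹ := by group
      _ = z₁ := by rw [hVcomm (hv₀fix s hs).1 hz₁V, mul_inv_cancel_right]
  obtain ⟨u, hu⟩ : ∃ u, u = x * z₁ * x⁻¹ := ⟨_, rfl⟩
  have huV : u ∈ V := hu ▸ hg.hVn.conj_mem z₁ hz₁V x
  have hv₀' : v₀ = w₀ * (u * c₁) := by
    have : x * w₁ * x⁻¹ = u * c₁ := by
      rw [← hw₁eq, hu]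
      conv_rhs => rw [← hDfix hxL hc₁]
      group
    rw [← hv₀eq, this]
  have huW : u ∉ W := fun hm => hv₀W (hv₀' ▸ mul_mem hw₀ (mul_mem hm (hDW hc₁)))
  have hufix : t * u * t⁻¹ * u⁻¹ ∈ W := by
    have hWc : t * (w₀ * c₁) * t⁻¹ ∈ W := hSW ht (mul_mem hw₀ (hDW hc₁))
    have e : v₀ = (w₀ * c₁) * u := by
      rw [hv₀', hVcomm huV hc₁.1, mul_assoc]
    have h1 := hv₀fix t ht
    rw [e] at h1
    have h2 : t * u * t⁻¹ * u⁻¹ = (t * (w₀ * c₁) * t⁻¹)⁻¹ *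
        (t * (w₀ * c₁ * u) * t⁻¹ * (w₀ * c₁ * u)⁻¹) * (w₀ * c₁) := by
      have hcm : u⁻¹ * (w₀ * c₁)⁻¹ * (w₀ * c₁) = u⁻¹ := inv_mul_cancel_right _ _
      calc t * u * t⁻¹ * u⁻¹ = (t * (w₀ * c₁) * t⁻¹)⁻¹ * (t * (w₀ * c₁ * u) * t⁻¹) * (u⁻¹ * (w₀ * c₁)⁻¹ * (w₀ * c₁)) := by
            rw [hcm]; group
        _ = _ := by group
    rw [h2]
    exact mul_mem (mul_mem (inv_mem hWc) h1) (mul_mem hw₀ (hDW hc₁))
  obtain ⟨a, ha, c, hc, he⟩ := hsurj u huV huW _ hufix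
  refine ⟨a, ha, by_contra fun hQ => ?_⟩
  have ht' : a⁻¹ * t ∈ (S : Subgroup G) := mul_mem (inv_mem (hBS ha)) ht
  obtain ⟨t', ht'def⟩ : ∃ t', t' = a⁻¹ * t := ⟨_, rfl⟩
  rw [← ht'def] at ht' hQ
  have hact : t' * u * t'⁻¹ = c * u := by
    have h1 : t * u * t⁻¹ = a * u * a⁻¹ * u⁻¹ * c * u := by rw [he, inv_mul_cancel_right]
    have h2 := hWfix (B.inv_mem ha) (hDW hc)
    rw [inv_inv] at h2
    have h3 : t' * u * t'⁻¹ = (u * a⁻¹ * u⁻¹ * a) * (a⁻¹ * c * a) * (a⁻¹ * u * a) := by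
      rw [ht'def, show a⁻¹ * t * u * (a⁻¹ * t)⁻¹ = a⁻¹ * (t * u * t⁻¹) * a by group, h1]
      group
    rw [h3, h2]
    have hq : u * a⁻¹ * u⁻¹ * a ∈ V := by
      rw [show u * a⁻¹ * u⁻¹ * a = u * (a⁻¹ * u⁻¹ * a⁻¹⁻¹) by group]
      exact V.mul_mem huV (hg.hVn.conj_mem _ (V.inv_mem huV) a⁻¹)
    rw [hVcomm hq hc.1]
    group
  have hcuV : c * u ∈ V := V.mul_mem hc.1 huV
  obtain ⟨y, hy⟩ : ∃ y, y = t' * x := ⟨_, rfl⟩
  obtain ⟨e, hedef⟩ : ∃ e, e = y⁻¹ * (c * u) * y := ⟨_, rfl⟩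
  have heS : (S : Subgroup G) ≤ centralizer ({e} : Set G) := fun s hs => by
    refine mem_centralizer_singleton_iff.2 (mul_inv_eq_iff_eq_mul.1 ?_)
    have : e = z₁ := by rw [hedef, ← hact, hy, hu]; group
    rw [this]
    exact hz₁S s hs
  have hcuB : ∀ b ∈ B, (x * b * x⁻¹) * (c * u) * (x * b * x⁻¹)⁻¹ = c * u := by
    intro b hb
    have h1 : (x * b * x⁻¹) * c * (x * b * x⁻¹)⁻¹ = c :=
      hDfix (L.mul_mem (L.mul_mem hxL (mem_sup_left hb)) (L.inv_mem hxL)) hc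
    have h2 : (x * b * x⁻¹) * u * (x * b * x⁻¹)⁻¹ = u := by
      have h3 := hz₁S b (hBS hb)
      rw [hu]
      calc x * b * x⁻¹ * (x * z₁ * x⁻¹) * (x * b * x⁻¹)⁻¹ = x * (b * z₁ * b⁻¹) * x⁻¹ := by group
        _ = _ := by rw [h3]
    conv_rhs => rw [← h1, ← h2]
    group
  have htop : centralizer ({e} : Set G) = ⊤ := by
    refine h.eq_top_of_not_le heS fun hle => ?_
    obtain ⟨b, hb, hbQ⟩ := SetLike.not_le_iff_exists.1 hBQ
    have hyx : y⁻¹ * x ∉ M := fun hm => by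
      refine h.conj_notMem ht' hQ (g := x⁻¹) (fun hh => hxM (inv_mem_iff.mp hh)) ?_
      rw [hy] at hm
      have h1 := inv_mem hm
      rw [inv_inv]
      rw [show ((t' * x)⁻¹ * x)⁻¹ = x⁻¹ * t' * x by group] at h1
      exact h1
    refine h.conj_notMem (hBS hb) hbQ hyx (hle (mem_centralizer_singleton_iff.2
      (mul_inv_eq_iff_eq_mul.1 ?_)))
    rw [hedef]
    calc _ = y⁻¹ * ((x * b * x⁻¹) * (c * u) * (x * b * x⁻¹)⁻¹) * y := by group
      _ = _ := by rw [hcuB b hb]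
  have hec : ∀ k : G, k * e * k⁻¹ = e := fun k =>
    mul_inv_eq_iff_eq_mul.2 (mem_centralizer_singleton_iff.1 (htop.ge (mem_top k)))
  have hucent : u = e := by
    have h1 := hec y
    rw [hedef, show y * (y⁻¹ * (c * u) * y) * y⁻¹ = c * u by group] at h1
    rw [← hedef] at h1
    calc u = t'⁻¹ * (c * u) * t' := by rw [← hact]; group
      _ = t'⁻¹ * e * t' := by rw [h1]
      _ = e := by simpa using hec t'⁻¹
  exact huW ⟨huV, mem_centralizer_iff.2 fun b _ => mul_inv_eq_iff_eq_mul.1 (hucent ▸ hec b)⟩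

/-- The full statement for an abelian offender outside `O_p(G)`. -/
theorem full (A : Subgroup G) (hAS : A ≤ S)
    (hAQ : ¬ A ≤ Cfsg.pCore p G)
    (hbound : Nat.card V * Nat.card (A ⊓ Cfsg.pCore p G : Subgroup G) ≤
      Nat.card A * Nat.card (V ⊓ centralizer (A : Set G) : Subgroup G)) :
    (∀ s ∈ (S : Subgroup G), ∃ a ∈ A, a⁻¹ * s ∈ Cfsg.pCore p G) ∧
      V ⊓ centralizer (A : Set G) = V ⊓ centralizer ((S : Subgroup G) : Set G) ∧
      Nat.card V * Nat.card (A ⊓ Cfsg.pCore p G : Subgroup G) =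
        Nat.card A * Nat.card (V ⊓ centralizer (A : Set G) : Subgroup G) ∧
      ∀ x : G, x ∉ M →
        (∀ v ∈ V, ∃ w ∈ V ⊓ centralizer (A : Set G), ∃ w' ∈ V ⊓ centralizer (A : Set G),
          w * (x * w' * x⁻¹) = v) ∧
        (V ⊓ centralizer (A : Set G)) ⊓ cj x (V ⊓ centralizer (A : Set G)) ≤ center G := by
  haveI := hg.hVn
  obtain ⟨B, hBA, hAB, hBQ, hBb, hstrict⟩ := hg.exists_minimal h A hAQ hbound
  have hBS : B ≤ S := hBA.trans hAS
  have hcov := fun t (ht : t ∈ (S : Subgroup G)) => hg.exists_cover h B hBS hBQ hBb hstrict ht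
  obtain rfl : B = A := by
    refine le_antisymm hBA fun a ha => ?_
    obtain ⟨b, hb, hbq⟩ := hcov a (hAS ha)
    have := mul_mem hb (hAB ⟨mul_mem (A.inv_mem (hBA hb)) ha, hbq⟩)
    rwa [mul_inv_cancel_left] at this
  have hQC : Cfsg.pCore p G ≤ centralizer (V : Set G) := hg.hQ.ge.trans inf_le_right
  have hWS : V ⊓ centralizer (B : Set G) = V ⊓ centralizer ((S : Subgroup G) : Set G) := by
    refine le_antisymm (fun v hv => ⟨hv.1, mem_centralizer_iff.2 fun s hs => ?_⟩)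
      (inf_le_inf_left _ (Subgroup.centralizer_le hAS))
    obtain ⟨a, ha, hq⟩ := hcov s hs
    have h1 := mem_centralizer_iff.1 hv.2 a ha
    have h2 := (mem_centralizer_iff.1 (hQC hq) v hv.1).symm
    calc s * v = a * ((a⁻¹ * s) * v) := by group
      _ = a * v * (a⁻¹ * s) := by rw [h2]; group
      _ = v * s := by rw [h1]; group
  have hSle : (S : Subgroup G) ≤ B ⊔ centralizer (V : Set G) := fun s hs => by
    obtain ⟨a, ha, hq⟩ := hcov s hs
    have := mul_mem (mem_sup_left (T := centralizer (V : Set G)) ha)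
      (mem_sup_right (S := B) (hQC hq))
    rwa [mul_inv_cancel_left] at this
  have hgen : ∀ k ∈ (⊤ : Subgroup G), k ∉ M →
      (⊤ : Subgroup G) ≤ (B ⊔ cj k B) ⊔ centralizer (V : Set G) := by
    intro k _ hk
    refine (hg.eq_top_of_image h (L := B ⊔ cj k B) ?_
      (hSle.trans (sup_le_sup_right le_sup_left _))).ge
    intro hle
    obtain ⟨b, hb, hbQ⟩ := SetLike.not_le_iff_exists.1 hBQ
    refine h.conj_notMem (hBS hb) hbQ hk (hle (mem_sup_right (mem_cj.2 ?_)))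
    simpa [mul_assoc] using hb
  have hmeet : ∀ x : G, x ∉ M →
      (V ⊓ centralizer (B : Set G)) ⊓ cj x (V ⊓ centralizer (B : Set G)) ≤
        V ⊓ centralizer ((⊤ : Subgroup G) : Set G) := by
    intro x hx v hv
    refine ⟨hv.1.1, ?_⟩
    refine Subgroup.centralizer_le (hgen x trivial hx) ?_
    rw [Thompson.centralizer_sup, Thompson.centralizer_sup]
    refine ⟨⟨hv.1.2, ?_⟩, mem_centralizer_iff.2 fun c hc => ?_⟩
    · have := hv.2
      rw [Offender.cj_fix (by rw [normalizer_eq_top]; exact mem_top _)] at this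
      exact this.2
    · exact (mem_centralizer_iff.1 hc v hv.1.1).symm
  obtain ⟨x, hx⟩ : ∃ x : G, x ∉ M := by
    by_contra hcon
    push Not at hcon
    exact h.hM.1 (eq_top_iff.2 fun g _ => hcon g)
  obtain ⟨hcard, hdec, -, -⟩ := hg.run h B hBS hBQ hBb hstrict ⊤ le_top x (mem_top x) hx hgen
  refine ⟨hcov, hWS, le_antisymm hBb ?_, fun y hy => ⟨?_, ?_⟩⟩
  · set W := V ⊓ centralizer (B : Set G) with hW
    set D := V ⊓ centralizer ((⊤ : Subgroup G) : Set G) with hD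
    have hcjV : cj x W ≤ V := fun v hv => by
      simpa [mul_assoc] using hg.hVn.conj_mem _ (mem_cj.1 hv).1 x
    have e1 := Thompson.card_sup_mul_card_inf_of_comm (X := W) (Y := cj x W)
      ((inf_le_left.trans (Thompson.ea_iff.1 hg.hV).1).trans (Subgroup.centralizer_le hcjV))
    rw [Offender.card_cj] at e1
    have hVeq : W ⊔ cj x W = V := by
      refine le_antisymm (sup_le inf_le_left hcjV) fun v hv => ?_
      obtain ⟨w, hw, w', hw', rfl⟩ := hdec v hv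
      exact mul_mem (mem_sup_left hw) (mem_sup_right (mem_cj.2 (by simpa [mul_assoc] using hw')))
    rw [hVeq] at e1
    have i1 : Nat.card (W ⊓ cj x W : Subgroup G) ≤ Nat.card D := card_le_of_le (hmeet x hx)
    refine Nat.le_of_mul_le_mul_right ?_ (Nat.card_pos (α := D))
    calc Nat.card B * Nat.card W * Nat.card D = Nat.card W * (Nat.card B * Nat.card D) := by ring
      _ = Nat.card W * Nat.card W * Nat.card (B ⊓ Cfsg.pCore p G : Subgroup G) := by rw [← hcard]; ring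
      _ ≤ Nat.card V * Nat.card D * Nat.card (B ⊓ Cfsg.pCore p G : Subgroup G) := by
          rw [← e1]; exact Nat.mul_le_mul_right _ (Nat.mul_le_mul_left _ i1)
      _ = _ := by ring
  · exact (hg.run h B hBS hBQ hBb hstrict ⊤ le_top y (mem_top y) hy hgen).2.1
  · refine (hmeet y hy).trans fun v hv => mem_center_iff.2 fun k => ?_
    exact mem_centralizer_iff.1 hv.2 k (mem_top k)

end Ground

end Cfsg.Agent.PushRankOne
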