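import Cfsg.Agent.PushRankOne.CL
import Cfsg.Agent.Core.Frattini
import Cfsg.Agent.Fusion.Critical

/-!
# Pushing up centrally large subgroups
-/

set_option autoImplicit false
set_option linter.unusedSectionVars false

namespace Cfsg.Agent.PushRankOne

open Subgroup
open scoped commutatorElement Pointwise

variable {G : Type*} [Group G] [Finite G] {p : ℕ} [Fact p.Prime]

/-- The Frattini subgroup of a subgroup, inside the ambient group. -/
def phi (T : Subgroup G) : Subgroup G := (frattini ↥T).map T.subtype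

theorem phi_map {G' : Type*} [Group G'] {f : G' →* G} (hf : Function.Injective f)
    (R : Subgroup G') : (phi (R.map f) : Subgroup G) = ((frattini ↥R).map R.subtype).map f := by
  let e := R.equivMapOfInjective f hf
  have h1 := Core.map_frattini_le_of_surjective (f := e.toMonoidHom) e.surjective
  have h2 := Core.map_frattini_le_of_surjective (f := e.symm.toMonoidHom) e.symm.surjective
  apply le_antisymm
  · rintro _ ⟨x, hx, rfl⟩
    have := h2 ⟨x, hx, rfl⟩
    refine ⟨(e.symm x : R), ⟨e.symm x, this, rfl⟩, ?_⟩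
    exact congrArg Subtype.val (e.apply_symm_apply x)
  · rintro _ ⟨_, ⟨y, hy, rfl⟩, rfl⟩
    exact ⟨e y, h1 ⟨y, hy, rfl⟩, rfl⟩

/-- `Ω₁(Z(T))`. -/
def oz (p : ℕ) (T : Subgroup G) : Subgroup G := Cfsg.omegaOne p (T ⊓ centralizer (T : Set G))

theorem oz_map {S : Subgroup G} (R : Subgroup ↥S) :
    Nat.card (oz p (R.map S.subtype)) = Nat.card (Cfsg.omegaOneCenter p R) := by
  rw [oz, Cfsg.omegaOneCenter, ← map_centre,
    ← Thompson.omegaOne_map_of_injective S.subtype_injective,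
    card_map_of_injective S.subtype_injective]

theorem oz_cj (g : G) (T : Subgroup G) :
    Nat.card (oz p (Offender.cj g T)) = Nat.card (oz p T) := by
  have e : Offender.cj g T ⊓ centralizer ((Offender.cj g T : Subgroup G) : Set G) =
      Offender.cj g (T ⊓ centralizer (T : Set G)) := by
    show T.map (MulAut.conj g).toMonoidHom ⊓ _ = _
    rw [CentLarge.centralizer_map (MulAut.conj g) T]
    exact (map_inf _ _ _ (MulAut.conj g).injective).symm
  rw [oz, oz, e]
  show Nat.card (Cfsg.omegaOne p ((T ⊓ centralizer (T : Set G)).map (MulAut.conj g).toMonoidHom) :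
    Subgroup G) = _
  rw [← Thompson.omegaOne_map_of_injective (f := (MulAut.conj g).toMonoidHom) (MulAut.conj g).injective]
  exact card_map_of_injective (MulAut.conj g).injective

/-- Minimal centrally large with `Ω₁` of the centre as large as possible. -/
def Big (p : ℕ) (S T : Subgroup G) : Prop :=
  MCL S T ∧ ∀ T', MCL S T' → Nat.card (oz p T') ≤ Nat.card (oz p T)

theorem big_map_iff {S : Subgroup G} (R : Subgroup ↥S) :
    (Cfsg.IsMinimalCentrallyLarge R ∧
      Nat.card (Cfsg.omegaOneCenter p R) = Cfsg.maxOmegaCenterOfMinimalCL p ↥S) ↔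
      Big p S (R.map S.subtype) := by
  have hbdd : BddAbove {k : ℕ | ∃ Q : Subgroup ↥S, Cfsg.IsMinimalCentrallyLarge Q ∧
      Nat.card (Cfsg.omegaOneCenter p Q) = k} :=
    ((Set.finite_range fun Q : Subgroup ↥S => Nat.card (Cfsg.omegaOneCenter p Q)).subset
      (by rintro k ⟨Q, -, rfl⟩; exact ⟨Q, rfl⟩)).bddAbove
  unfold Cfsg.maxOmegaCenterOfMinimalCL
  constructor
  · rintro ⟨h1, h2⟩
    refine ⟨(mcl_map_iff R).1 h1, fun T hT => ?_⟩
    rw [oz_map, h2, ← map_subgroupOf_eq_of_le hT.1.1, oz_map]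
    exact le_csSup hbdd ⟨_, hT.subgroupOf, rfl⟩
  · intro h
    refine ⟨(mcl_map_iff R).2 h.1, le_antisymm (le_csSup hbdd ⟨R, (mcl_map_iff R).2 h.1, rfl⟩)
      (csSup_le' ?_)⟩
    rintro k ⟨Q, hQ, rfl⟩
    rw [← oz_map, ← oz_map]
    exact h.2 _ ((mcl_map_iff Q).1 hQ)

variable {S : Sylow p G} {M K : Subgroup G}

theorem ground_exists (h : Setup p S M K) (U : Subgroup G) [hU : U.Normal]
    (hUQ : U ≤ Cfsg.pCore p G ⊓ centralizer (Cfsg.pCore p G : Set G))
    (hnc : ¬ (S : Subgroup G) ⊓ centralizer ((S : Subgroup G) : Set G) ⊓ U ≤ center G) :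
    ∃ (V : Subgroup G) (z : G), Ground p S V z ∧ V ≤ U := by
  have hUc : U ≤ centralizer (U : Set G) :=
    hUQ.trans (inf_le_right.trans (centralizer_le (hUQ.trans inf_le_left)))
  haveI hVn : (Cfsg.omegaOne p U).Normal := by
    refine ⟨fun v hv g => ?_⟩
    have hm : g * v * g⁻¹ ∈ (Cfsg.omegaOne p U).map (MulAut.conj g).toMonoidHom := ⟨v, hv, rfl⟩
    rw [Thompson.omegaOne_map_of_injective (f := (MulAut.conj g).toMonoidHom)
      (MulAut.conj g).injective U] at hm
    refine (Thompson.omegaOne_mono (p := p) ?_) hm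
    rintro _ ⟨y, hy, rfl⟩
    exact hU.conj_mem y hy g
  obtain ⟨z, hz, hzp, hzG⟩ := exists_omega_noncentral_inf S U hUc hnc
  exact ⟨_, z, ground_of h _ (Thompson.omegaOne_ea hUc)
    ((Thompson.omegaOne_le p U).trans hUQ) (Thompson.mem_omegaOne hz.2 hzp) hz.1.2 hzG,
    Thompson.omegaOne_le p U⟩

theorem exists_ground_offender (h : Setup p S M K)
    (hzj : (S : Subgroup G) ≤ centralizer (zj S : Set G))
    (hnc : ¬ (S : Subgroup G) ⊓ centralizer ((S : Subgroup G) : Set G) ≤ center G) :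
    ∃ (V : Subgroup G) (z : G) (A : Subgroup G), Ground p S V z ∧ V ≤ Cfsg.pCore p G ∧
      AbMax (S : Subgroup G) A ∧ ¬ A ≤ Cfsg.pCore p G := by
  obtain ⟨V, z, hg, hV⟩ := ground_exists h _ (normalClosure_le_pCore h le_rfl)
    (by rwa [inf_eq_left.2 le_normalClosure])
  obtain ⟨A, hA, hAQ⟩ := exists_abMax_not_le h hzj hnc
  exact ⟨V, z, A, hg, (hV.trans (normalClosure_le_pCore h le_rfl)).trans inf_le_left, hA, hAQ⟩

/-- The commutator subgroup of a minimal centrally large subgroup pushes up. -/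
theorem mcl_push (h : Setup p S M K) (hzj : (S : Subgroup G) ≤ centralizer (zj S : Set G))
    {R : Subgroup G} (hR : MCL (S : Subgroup G) R)
    (hnc : ¬ (S : Subgroup G) ⊓ centralizer ((S : Subgroup G) : Set G) ⊓ ⁅R, R⁆ ≤ center G) :
    ∀ T, MCL (S : Subgroup G) T → T ≤ Cfsg.pCore p G := by
  have hQS : Cfsg.pCore p G ≤ (S : Subgroup G) := Core.pCore_le_sylow S
  obtain ⟨V, z, A, hg, hVQ, hA, hAQ⟩ :=
    exists_ground_offender h hzj fun hle => hnc (inf_le_left.trans hle)
  obtain ⟨R₀, hR₀, hR₀Q⟩ := exists_mcl_le_pCore h hg hVQ hA hAQ hR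
  haveI hDn : (⁅R, R⁆ : Subgroup G).Normal := by
    refine ⟨fun d hd g => ?_⟩
    rw [hR.commutator_eq (hR₀.cj hR₀Q hQS g).1]
    rw [hR.commutator_eq hR₀] at hd
    show g * d * g⁻¹ ∈ ⁅R₀.map (MulAut.conj g).toMonoidHom, R₀.map (MulAut.conj g).toMonoidHom⁆
    rw [← map_commutator]
    exact ⟨d, hd, rfl⟩
  set X := (S : Subgroup G) ⊓ centralizer ((S : Subgroup G) : Set G) ⊓ ⁅R, R⁆ with hX
  have hUD : normalClosure (X : Set G) ≤ ⁅R, R⁆ :=
    normalClosure_le_normal fun x hx => hx.2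
  obtain ⟨V', z', hg', hV'⟩ := ground_exists h (normalClosure (X : Set G))
    (normalClosure_le_pCore h inf_le_left)
    fun hle => hnc ((le_inf inf_le_left le_normalClosure : X ≤ _).trans hle)
  intro T hT
  by_contra hTQ
  refine (mcl_outside h hg' ((hV'.trans (normalClosure_le_pCore h inf_le_left)).trans inf_le_left)
    hA hAQ hT hTQ).1 ?_
  rw [hR.commutator_eq hT] at hUD
  exact (hV'.trans hUD).trans (commutator_le_self T)

/-- A big minimal centrally large subgroup has Frattini subgroup below that of one in `O_p(G)`. -/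
theorem big_push (h : Setup p S M K) (hzj : (S : Subgroup G) ≤ centralizer (zj S : Set G))
    (hnc : ¬ (S : Subgroup G) ⊓ centralizer ((S : Subgroup G) : Set G) ≤ center G)
    {T : Subgroup G} (hT : Big p (S : Subgroup G) T) :
    ∃ T₁, Big p (S : Subgroup G) T₁ ∧ T₁ ≤ Cfsg.pCore p G ∧ phi T ≤ phi T₁ := by
  obtain ⟨V, z, A, hg, hVQ, hA, hAQ⟩ := exists_ground_offender h hzj hnc
  set Q := Cfsg.pCore p G with hQdef
  by_cases hTQ : T ≤ Q
  · exact ⟨T, hT, hTQ, le_rfl⟩
  obtain ⟨-, hT₁, hTV, hcw, hrw⟩ := mcl_outside h hg hVQ hA hAQ hT.1 hTQ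
  set W := V ⊓ centralizer ((S : Subgroup G) : Set G) with hWdef
  set C := T ⊓ centralizer (T : Set G) with hCdef
  set T₁ := (T ⊓ Q) ⊔ V with hT₁def
  set O := oz p T with hOdef
  have hOC : O ≤ C := Thompson.omegaOne_le p _
  have hCc : C ≤ centralizer (C : Set G) := inf_le_right.trans (centralizer_le inf_le_left)
  have hOea : Cfsg.IsElementaryAbelian p O := Thompson.omegaOne_ea hCc
  have hQV : Q ≤ centralizer (V : Set G) := hg.hQ.ge.trans inf_le_right
  have hQS : Q ≤ (S : Subgroup G) := Core.pCore_le_sylow S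
  have hWO : W ≤ O := fun v hv => Thompson.mem_omegaOne
    (hT.1.1.centre_le ⟨hQS (hVQ hv.1), hv.2⟩) ((Thompson.ea_iff.1 hg.hV).2 v hv.1)
  have hOQ : O ⊓ Q ⊓ V = W := le_antisymm
    ((le_inf ((inf_le_left.trans inf_le_left).trans (hOC.trans inf_le_left)) inf_le_right).trans
      hTV.le)
    (le_inf (le_inf hWO (inf_le_left.trans hVQ)) inf_le_left)
  have e2 := Thompson.card_sup_mul_card_inf_of_comm
    ((inf_le_right : O ⊓ Q ≤ Q).trans hQV)
  rw [hOQ] at e2
  have hle : (O ⊓ Q) ⊔ V ≤ oz p T₁ := by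
    have hc1 : (O ⊓ Q) ⊔ V ≤ T₁ ⊓ centralizer (T₁ : Set G) := by
      refine le_inf (sup_le_sup_right (inf_le_inf_right _ (hOC.trans inf_le_left)) _) ?_
      rw [hT₁def, Thompson.centralizer_sup]
      exact sup_le (le_inf ((inf_le_left.trans (hOC.trans inf_le_right)).trans
          (centralizer_le inf_le_left)) (inf_le_right.trans hQV))
        (le_inf ((le_centralizer_iff.1 hQV).trans (centralizer_le inf_le_right))
          (Thompson.ea_iff.1 hg.hV).1)
    exact sup_le (fun x hx => Thompson.mem_omegaOne (hc1 (mem_sup_left hx))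
        ((Thompson.ea_iff.1 hOea).2 x hx.1))
      (fun x hx => Thompson.mem_omegaOne (hc1 (mem_sup_right hx))
        ((Thompson.ea_iff.1 hg.hV).2 x hx))
  have h1 : Nat.card O * Nat.card W ≤ Nat.card (O ⊓ Q : Subgroup G) * Nat.card V := by
    have h0 := CentLarge.card_mul_le_of_le hOC (inf_le_left : C ⊓ Q ≤ C)
    rw [← inf_assoc, inf_eq_left.2 hOC] at h0
    refine Nat.le_of_mul_le_mul_right ?_ (Nat.card_pos (α := (C ⊓ Q : Subgroup G)))
    calc Nat.card O * Nat.card W * Nat.card (C ⊓ Q : Subgroup G)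
        = Nat.card O * Nat.card (C ⊓ Q : Subgroup G) * Nat.card W := by ring
      _ ≤ Nat.card C * Nat.card (O ⊓ Q : Subgroup G) * Nat.card W := Nat.mul_le_mul_right _ h0
      _ = Nat.card (O ⊓ Q : Subgroup G) * (Nat.card C * Nat.card W) := by ring
      _ = _ := by rw [hcw]; ring
  have h2 : Nat.card (oz p T₁) ≤ Nat.card O := hT.2 T₁ hT₁
  have h3 : Nat.card (O ⊓ Q : Subgroup G) * Nat.card V ≤ Nat.card (oz p T₁) * Nat.card W := by
    rw [← e2]; exact Nat.mul_le_mul_right _ (card_le_of_le hle)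
  have hbig : Nat.card O = Nat.card (oz p T₁) :=
    le_antisymm (Nat.le_of_mul_le_mul_right (h1.trans h3) Nat.card_pos) h2
  have hO : Nat.card O * Nat.card W = Nat.card (O ⊓ Q : Subgroup G) * Nat.card V :=
    le_antisymm h1 (h3.trans (Nat.mul_le_mul_right _ h2))
  refine ⟨T₁, ⟨hT₁, fun T' hT' => (hT.2 T' hT').trans hbig.le⟩, sup_le inf_le_right hVQ, ?_⟩
  -- `T = (T ∩ Q) · Ω₁(Z(T))`
  have hOT : O ≤ T := hOC.trans inf_le_left
  have hdec : (T ⊓ Q) ⊔ O = T := by
    refine eq_of_le_of_card_ge (sup_le inf_le_left hOT) ?_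
    have h0 := CentLarge.card_mul_le_of_le (H := T ⊓ Q) (K := O) (L := (T ⊓ Q) ⊔ O)
      le_sup_left le_sup_right
    have ei : T ⊓ Q ⊓ O = O ⊓ Q := le_antisymm (le_inf inf_le_right (inf_le_left.trans inf_le_right))
      (le_inf (le_inf (inf_le_left.trans hOT) inf_le_right) inf_le_left)
    rw [ei] at h0
    refine Nat.le_of_mul_le_mul_right ?_
      (Nat.mul_pos (Nat.card_pos (α := (O ⊓ Q : Subgroup G))) (Nat.card_pos (α := W)))
    calc Nat.card T * (Nat.card (O ⊓ Q : Subgroup G) * Nat.card W)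
        = Nat.card (O ⊓ Q : Subgroup G) * (Nat.card T * Nat.card W) := by ring
      _ = Nat.card (T ⊓ Q : Subgroup G) * (Nat.card (O ⊓ Q : Subgroup G) * Nat.card V) := by
          rw [hrw]; ring
      _ = Nat.card (T ⊓ Q : Subgroup G) * Nat.card O * Nat.card W := by rw [← hO]; ring
      _ ≤ Nat.card ((T ⊓ Q) ⊔ O : Subgroup G) * Nat.card (O ⊓ Q : Subgroup G) * Nat.card W :=
          Nat.mul_le_mul_right _ h0
      _ = _ := by ring
  have hT₁p : IsPGroup p ↥T₁ := S.2.to_le hT₁.1.1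
  haveI := hT₁p.isNilpotent
  have hN : frattini ↥T ≤ (phi T₁).comap T.subtype := by
    have hsplit : ∀ x : ↥T, ∃ a ∈ T ⊓ Q, ∃ o ∈ O, (x : G) = a * o := by
      intro x
      have hn : O ≤ normalizer ((T ⊓ Q : Subgroup G) : Set G) :=
        ((hOC.trans inf_le_right).trans (centralizer_le inf_le_left)).trans
          (centralizer_le_normalizer _)
      obtain ⟨a, ha, o, ho, e⟩ := CentLarge.mem_mul_of_mem_sup hn (hdec.ge x.2)
      exact ⟨a, ha, o, ho, e.symm⟩
    have hfix : ∀ o ∈ O, ∀ y ∈ T, Commute y o := fun o ho y hy =>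
      mem_centralizer_iff.1 (hOC ho).2 y hy
    refine Fusion.frattini_le_of_elementary (p := p) _ ?_ fun x => ?_
    · rw [commutator_def, commutator_le]
      intro x _ y _
      obtain ⟨a, ha, o, ho, hx⟩ := hsplit x
      obtain ⟨b, hb, o', ho', hy⟩ := hsplit y
      have e : ⁅(x : G), (y : G)⁆ = ⁅a, b⁆ := by
        rw [hx, hy]
        simp only [commutatorElement_def]
        have e1 : o * (b * o') * o⁻¹ = b * o' := by
          rw [← (hfix o ho _ (mul_mem hb.1 (hOT ho'))).eq, mul_inv_cancel_right]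
        have e2 : o' * a⁻¹ * o'⁻¹ = a⁻¹ := by
          rw [← (hfix o' ho' _ (inv_mem ha.1)).eq, mul_inv_cancel_right]
        calc a * o * (b * o') * (a * o)⁻¹ * (b * o')⁻¹
            = a * (o * (b * o') * o⁻¹) * a⁻¹ * (o'⁻¹ * b⁻¹) := by group
          _ = a * (b * o') * a⁻¹ * (o'⁻¹ * b⁻¹) := by rw [e1]
          _ = a * b * (o' * a⁻¹ * o'⁻¹) * b⁻¹ := by group
          _ = a * b * a⁻¹ * b⁻¹ := by rw [e2]
      show ⁅(x : G), (y : G)⁆ ∈ phi T₁
      rw [e]
      exact ⟨⁅(⟨a, mem_sup_left ha⟩ : ↥T₁), ⟨b, mem_sup_left hb⟩⁆,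
        Core.commutator_le_frattini (commutator_mem_commutator (mem_top _) (mem_top _)), rfl⟩
    · obtain ⟨a, ha, o, ho, hx⟩ := hsplit x
      show ((x : G) ^ p) ∈ phi T₁
      rw [hx, (hfix o ho a ha.1).mul_pow, (Thompson.ea_iff.1 hOea).2 o ho, mul_one]
      exact ⟨(⟨a, mem_sup_left ha⟩ : ↥T₁) ^ p, Core.pow_mem_frattini hT₁p _, rfl⟩
  exact map_le_iff_le_comap.2 hN

end Cfsg.Agent.PushRankOne
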