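import Cfsg.Agent.PushRankOne.Main
import Cfsg.Agent.CentLarge.MaxAbelian

/-!
# Centrally large subgroups in the rank-one pushing-up situation
-/

set_option autoImplicit false
set_option linter.unusedSectionVars false

namespace Cfsg.Agent.PushRankOne

open Subgroup
open Cfsg.Agent.Offender (cj mem_cj)
open scoped commutatorElement Pointwise

variable {G : Type*} [Group G] [Finite G] {p : ℕ} [Fact p.Prime]

/-- `|R| * |Z(R)|`. -/
noncomputable def clm (R : Subgroup G) : ℕ :=
  Nat.card R * Nat.card (R ⊓ centralizer (R : Set G) : Subgroup G)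

/-- Centrally large among the subgroups of `S`. -/
def CL (S R : Subgroup G) : Prop := R ≤ S ∧ ∀ T ≤ S, clm T ≤ clm R

/-- Minimal centrally large among the subgroups of `S`. -/
def MCL (S R : Subgroup G) : Prop := CL S R ∧ ∀ T ≤ R, CL S T → T = R

theorem map_centre {S : Subgroup G} (R : Subgroup ↥S) :
    (R ⊓ centralizer (R : Set S)).map S.subtype =
      R.map S.subtype ⊓ centralizer ((R.map S.subtype : Subgroup G) : Set G) := by
  ext x
  constructor
  · rintro ⟨y, ⟨hy, hyc⟩, rfl⟩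
    refine ⟨⟨y, hy, rfl⟩, mem_centralizer_iff.2 ?_⟩
    rintro _ ⟨w, hw, rfl⟩
    exact congrArg Subtype.val (mem_centralizer_iff.1 hyc w hw)
  · rintro ⟨⟨y, hy, rfl⟩, hc⟩
    refine ⟨y, ⟨hy, mem_centralizer_iff.2 fun w hw => Subtype.ext ?_⟩, rfl⟩
    exact mem_centralizer_iff.1 hc (w : G) ⟨w, hw, rfl⟩

theorem clm_map {S : Subgroup G} (R : Subgroup ↥S) :
    clm (R.map S.subtype) = Nat.card R * Nat.card (center ↥R) := by
  rw [clm, ← map_centre, card_map_of_injective S.subtype_injective,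
    card_map_of_injective S.subtype_injective, CentLarge.card_center]

theorem cl_map_iff {S : Subgroup G} (R : Subgroup ↥S) :
    Cfsg.IsCentrallyLarge R ↔ CL S (R.map S.subtype) := by
  have hbdd : BddAbove {k : ℕ | ∃ R : Subgroup ↥S, Nat.card R * Nat.card (center ↥R) = k} :=
    (Set.finite_range fun R : Subgroup ↥S => Nat.card R * Nat.card (center ↥R)).bddAbove
  unfold Cfsg.IsCentrallyLarge Cfsg.maxCentralProduct
  constructor
  · intro h
    refine ⟨map_subtype_le R, fun T hT => ?_⟩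
    rw [clm_map, h, ← map_subgroupOf_eq_of_le hT, clm_map]
    exact le_csSup hbdd ⟨_, rfl⟩
  · intro h
    refine le_antisymm (le_csSup hbdd ⟨R, rfl⟩) (csSup_le' ?_)
    rintro k ⟨T, rfl⟩
    rw [← clm_map, ← clm_map]
    exact h.2 _ (map_subtype_le T)

theorem mcl_map_iff {S : Subgroup G} (R : Subgroup ↥S) :
    Cfsg.IsMinimalCentrallyLarge R ↔ MCL S (R.map S.subtype) := by
  constructor
  · intro h
    refine ⟨(cl_map_iff R).1 h.1, fun T hT hTc => ?_⟩
    have hTS : T ≤ S := hT.trans (map_subtype_le R)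
    rw [← map_subgroupOf_eq_of_le hTS] at hTc hT ⊢
    rw [h.2 _ ((map_le_map_iff_of_injective S.subtype_injective).1 hT) ((cl_map_iff _).2 hTc)]
  · intro h
    refine ⟨(cl_map_iff R).2 h.1, fun T hT hTc => ?_⟩
    exact map_injective S.subtype_injective (h.2 _ (map_mono hT) ((cl_map_iff T).1 hTc))

theorem MCL.subgroupOf {S R : Subgroup G} (h : MCL S R) :
    Cfsg.IsMinimalCentrallyLarge (R.subgroupOf S) := by
  rw [mcl_map_iff, map_subgroupOf_eq_of_le h.1.1]
  exact h

theorem CL.cent_le {S R : Subgroup G} (h : CL S R) : S ⊓ centralizer (R : Set G) ≤ R := by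
  intro x hx
  have hcl : Cfsg.IsCentrallyLarge (R.subgroupOf S) := by
    rw [cl_map_iff, map_subgroupOf_eq_of_le h.1]; exact h
  exact ((CentLarge.isCentrallyLarge_iff _).1 hcl).2 (x := ⟨x, hx.1⟩)
    (mem_centralizer_iff.2 fun w hw => Subtype.ext (mem_centralizer_iff.1 hx.2 (w : G) hw))

theorem CL.centre_le {S R : Subgroup G} (h : CL S R) :
    S ⊓ centralizer (S : Set G) ≤ R ⊓ centralizer (R : Set G) :=
  le_inf (le_trans (inf_le_inf_left _ (centralizer_le h.1)) h.cent_le)
    (inf_le_right.trans (centralizer_le h.1))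

theorem exists_mcl_le {S R : Subgroup G} (h : CL S R) : ∃ T ≤ R, MCL S T := by
  obtain ⟨Q, hQR, hQ⟩ :=
    ((Set.toFinite {Q : Subgroup G | CL S Q}).exists_le_minimal h)
  exact ⟨Q, hQR, hQ.1, fun T hT hTc => le_antisymm hT (hQ.2 hTc hT)⟩

theorem MCL.card_eq {S R T : Subgroup G} (hR : MCL S R) (hT : MCL S T) :
    Nat.card R = Nat.card T := by
  have := (CentLarge.card_eq_of_minimal hR.subgroupOf hT.subgroupOf).1
  rwa [Nat.card_congr (subgroupOfEquivOfLe hR.1.1).toEquiv,
    Nat.card_congr (subgroupOfEquivOfLe hT.1.1).toEquiv] at this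

theorem mcl_of_card {S R T : Subgroup G} (hR : CL S R) (hT : MCL S T)
    (he : Nat.card R = Nat.card T) : MCL S R := by
  obtain ⟨T', hle, hT'⟩ := exists_mcl_le hR
  exact eq_of_le_of_card_ge hle (he.trans (hT.card_eq hT')).le ▸ hT'

theorem MCL.commutator_eq {S R T : Subgroup G} (hR : MCL S R) (hT : MCL S T) :
    ⁅R, R⁆ = ⁅T, T⁆ := by
  have h1 : ⁅R.subgroupOf S, R.subgroupOf S⁆ = ⁅T.subgroupOf S, T.subgroupOf S⁆ :=
    le_antisymm
      ((CentLarge.commutator_le_inf hR.subgroupOf hT.subgroupOf).trans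
        (commutator_mono inf_le_right inf_le_right))
      ((CentLarge.commutator_le_inf hT.subgroupOf hR.subgroupOf).trans
        (commutator_mono inf_le_right inf_le_right))
  have h2 := congrArg (Subgroup.map S.subtype) h1
  rwa [map_commutator, map_commutator, map_subgroupOf_eq_of_le hR.1.1,
    map_subgroupOf_eq_of_le hT.1.1] at h2

theorem clm_cj (g : G) (R : Subgroup G) : clm (cj g R) = clm R := by
  have e : cj g R ⊓ centralizer ((cj g R : Subgroup G) : Set G) =
      cj g (R ⊓ centralizer (R : Set G)) := by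
    show R.map (MulAut.conj g).toMonoidHom ⊓ _ = _
    rw [CentLarge.centralizer_map (MulAut.conj g) R]
    exact (map_inf _ _ _ (MulAut.conj g).injective).symm
  rw [clm, clm, e, Offender.card_cj, Offender.card_cj]

theorem MCL.cj {S R N : Subgroup G} [hN : N.Normal] (hR : MCL S R) (hRN : R ≤ N) (hNS : N ≤ S)
    (g : G) : MCL S (Offender.cj g R) ∧ Offender.cj g R ≤ N := by
  have hle : Offender.cj g R ≤ N := fun x hx => by
    simpa [mul_assoc] using hN.conj_mem _ (hRN (mem_cj.1 hx)) g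
  refine ⟨mcl_of_card ⟨hle.trans hNS, fun T hT => (hR.1.2 T hT).trans (clm_cj g R).ge⟩ hR ?_, hle⟩
  exact Offender.card_cj g R

variable {S : Sylow p G} {M K : Subgroup G}

theorem ground_of (h : Setup p S M K) (V : Subgroup G) [hVn : V.Normal]
    (hVea : Cfsg.IsElementaryAbelian p V)
    (hVQ : V ≤ Cfsg.pCore p G ⊓ centralizer (Cfsg.pCore p G : Set G)) {z : G} (hzV : z ∈ V)
    (hz : z ∈ centralizer ((S : Subgroup G) : Set G)) (hzG : z ∉ center G) : Ground p S V z := by
  refine ⟨hVn, hVea, le_antisymm ?_ (le_inf (Core.pCore_le_sylow S)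
    (le_centralizer_iff.1 (hVQ.trans inf_le_right))), hzV, hz, hzG⟩
  have hn : (centralizer (V : Set G)).Normal := inferInstance
  refine @Setup₀.normal_inf_le _ _ _ _ _ S M K h.toSetup₀ _ hn fun g hgc => ?_
  by_contra hgM
  have := h.eq_top_of_not_le (H := centralizer ({z} : Set G)) (fun s hs =>
    mem_centralizer_singleton_iff.2 (mem_centralizer_iff.1 hz s hs)) fun hle =>
    hgM (hle (mem_centralizer_singleton_iff.2 (mem_centralizer_iff.1 hgc z hzV).symm))
  exact hzG (mem_center_iff.2 fun k => mem_centralizer_singleton_iff.1 (this.ge (mem_top k)))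

theorem normalClosure_le_pCore (h : Setup p S M K) {X : Subgroup G}
    (hX : X ≤ (S : Subgroup G) ⊓ centralizer ((S : Subgroup G) : Set G)) :
    normalClosure (X : Set G) ≤ Cfsg.pCore p G ⊓ centralizer (Cfsg.pCore p G : Set G) := by
  haveI : (Cfsg.pCore p G ⊓ centralizer (Cfsg.pCore p G : Set G)).Normal := inferInstance
  refine normalClosure_le_normal fun x hx => ?_
  have h1 : x ∈ centralizer (Cfsg.pCore p G : Set G) :=
    centralizer_le (Core.pCore_le_sylow S) (hX hx).2
  exact ⟨h.hC h1, h1⟩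

/-- When `Z(J(S))` is central in `S`, some abelian subgroup of largest order is outside `O_p(G)`. -/
theorem exists_abMax_not_le (h : Setup p S M K)
    (hzj : (S : Subgroup G) ≤ centralizer (zj S : Set G))
    (hnc : ¬ (S : Subgroup G) ⊓ centralizer ((S : Subgroup G) : Set G) ≤ center G) :
    ∃ A, AbMax (S : Subgroup G) A ∧ ¬ A ≤ Cfsg.pCore p G := by
  by_contra hcon
  push Not at hcon
  haveI := h.hK
  have hQn : (Cfsg.pCore p G).Normal := inferInstance
  haveI hJn : (Cfsg.thompsonSubgroupAOf (S : Subgroup G)).Normal := by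
    refine ⟨fun v hv g => ?_⟩
    have hle : Cfsg.thompsonSubgroupAOf (S : Subgroup G) ≤
        (Cfsg.thompsonSubgroupAOf (S : Subgroup G)).comap (MulAut.conj g).toMonoidHom := by
      refine thompson_le fun A hA => ?_
      rw [← map_le_iff_le_comap]
      refine AbMax.le_thompson ⟨?_, ?_, fun B hB hBc => ?_⟩
      · rintro _ ⟨a, ha, rfl⟩
        exact Core.pCore_le_sylow S (hQn.conj_mem a (hcon A hA ha) g)
      · rintro _ ⟨a, ha, rfl⟩
        refine mem_centralizer_iff.2 ?_
        rintro _ ⟨b, hb, rfl⟩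
        rw [← map_mul, ← map_mul, mem_centralizer_iff.1 (hA.2.1 hb) a ha]
      · rw [card_map_of_injective (MulAut.conj g).injective]
        exact hA.2.2 B hB hBc
    exact hle hv
  haveI : (zj S).Normal := by
    show (Cfsg.thompsonSubgroupAOf (S : Subgroup G) ⊓
      centralizer (Cfsg.thompsonSubgroupAOf (S : Subgroup G) : Set G)).Normal
    infer_instance
  by_cases hM : centralizer (zj S : Set G) ≤ M
  · refine h.notNormal ?_
    have : (S : Subgroup G) = Cfsg.pCore p G :=
      le_antisymm ((le_inf le_rfl hzj).trans (h.normal_inf_le hM)) (Core.pCore_le_sylow S)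
    rw [this]
    infer_instance
  · have htop := h.eq_top_of_not_le hzj hM
    refine hnc fun z hz => mem_center_iff.2 fun k => ?_
    exact (mem_centralizer_iff.1 (htop.ge (mem_top k)) z (center_sylow_le_zj S hz)).symm

/-- A centrally large subgroup outside `O_p(G)`. -/
theorem mcl_outside (h : Setup p S M K) {V : Subgroup G} {z : G} (hg : Ground p S V z)
    (hVQ : V ≤ Cfsg.pCore p G) {A : Subgroup G} (hA : AbMax (S : Subgroup G) A)
    (hAQ : ¬ A ≤ Cfsg.pCore p G) {R : Subgroup G} (hR : MCL (S : Subgroup G) R)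
    (hRQ : ¬ R ≤ Cfsg.pCore p G) :
    ¬ V ≤ R ∧ MCL (S : Subgroup G) ((R ⊓ Cfsg.pCore p G) ⊔ V) ∧
      R ⊓ V = V ⊓ centralizer ((S : Subgroup G) : Set G) ∧
      Nat.card (R ⊓ centralizer (R : Set G) : Subgroup G) *
          Nat.card (V ⊓ centralizer ((S : Subgroup G) : Set G) : Subgroup G) =
        Nat.card (R ⊓ centralizer (R : Set G) ⊓ Cfsg.pCore p G : Subgroup G) * Nat.card V ∧
      Nat.card R * Nat.card (V ⊓ centralizer ((S : Subgroup G) : Set G) : Subgroup G) =
        Nat.card (R ⊓ Cfsg.pCore p G : Subgroup G) * Nat.card V := by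
  haveI := hg.hVn
  set Q := Cfsg.pCore p G with hQdef
  set W := V ⊓ centralizer ((S : Subgroup G) : Set G) with hWdef
  have hQS : Q ≤ (S : Subgroup G) := Core.pCore_le_sylow S
  have hQV : Q ≤ centralizer (V : Set G) := hg.hQ.ge.trans inf_le_right
  have hVc : V ≤ centralizer (V : Set G) := (Thompson.ea_iff.1 hg.hV).1
  have hAc : ∀ a ∈ A, ∀ b ∈ A, a * b = b * a := fun a ha b hb =>
    mem_centralizer_iff.1 (hA.2.1 hb) a ha
  have hbd : Nat.card V * Nat.card (A ⊓ Q : Subgroup G) ≤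
      Nat.card A * Nat.card (V ⊓ centralizer (A : Set G) : Subgroup G) := by
    have hc : V ≤ centralizer ((A ⊓ Q : Subgroup G) : Set G) :=
      (le_centralizer_iff.1 hQV).trans (centralizer_le inf_le_right)
    have hab := comm_sup (inf_le_left.trans (hA.2.1.trans (centralizer_le inf_le_left))) hVc hc
    have hAV : A ⊓ Q ⊓ V = V ⊓ centralizer (A : Set G) := by
      refine le_antisymm (le_inf inf_le_right ((inf_le_left.trans inf_le_left).trans hA.2.1))
        (le_inf (le_inf ?_ (inf_le_left.trans hVQ)) inf_le_left)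
      exact hA.le_of_centralizes (inf_le_left.trans (hVQ.trans hQS))
        ((inf_le_left.trans hVc).trans (centralizer_le inf_le_left)) inf_le_right
    have h3 := Thompson.card_sup_mul_card_inf_of_comm (le_centralizer_iff.1 hc)
    rw [hAV] at h3
    rw [mul_comm (Nat.card V), ← h3]
    exact Nat.mul_le_mul_right _
      (hA.2.2 _ (sup_le (inf_le_left.trans hA.1) (hVQ.trans hQS)) hab)
  obtain ⟨hcov, hWS, hfull, hgen⟩ := hg.full h.toSetup₀ A hA.1 hAQ hbd
  rw [hWS] at hfull hgen
  -- a point outside `O_p(G)` fixes only `W`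
  obtain ⟨x, hx⟩ : ∃ x : G, x ∉ M := by
    by_contra hcon
    push Not at hcon
    exact h.hM.1 (eq_top_iff.2 fun g _ => hcon g)
  have hfix : ∀ r ∈ (S : Subgroup G), r ∉ Q → ∀ v ∈ V, r * v = v * r → v ∈ W := by
    intro r hr hrQ v hv hrv
    obtain ⟨w, hw, w', hw', rfl⟩ := (hgen x hx).1 v hv
    have h1 : r * (x * w' * x⁻¹) = (x * w' * x⁻¹) * r := by
      have h2 := mem_centralizer_iff.1 hw.2 r hr
      calc r * (x * w' * x⁻¹) = w⁻¹ * ((w * r) * (x * w' * x⁻¹)) := by group
        _ = w⁻¹ * (r * (w * (x * w' * x⁻¹))) := by rw [← h2, mul_assoc r w]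
        _ = w⁻¹ * (w * (x * w' * x⁻¹) * r) := by rw [hrv]
        _ = _ := by group
    have htop : centralizer ({w'} : Set G) = ⊤ := by
      refine h.eq_top_of_not_le (fun s hs => mem_centralizer_singleton_iff.2
        (mem_centralizer_iff.1 hw'.2 s hs)) fun hle => ?_
      refine h.conj_notMem hr hrQ (g := x⁻¹) (fun hh => hx (inv_mem_iff.mp hh)) (hle (mem_centralizer_singleton_iff.2 ?_))
      rw [inv_inv]
      calc x⁻¹ * r * x * w' = x⁻¹ * (r * (x * w' * x⁻¹)) * x := by group
        _ = x⁻¹ * ((x * w' * x⁻¹) * r) * x := by rw [h1]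
        _ = w' * (x⁻¹ * r * x) := by group
    have hc : x * w' * x⁻¹ = w' := by
      rw [← mem_centralizer_singleton_iff.1 (htop.ge (mem_top x)) |>.symm, mul_inv_cancel_right]
    rw [hc]
    exact mul_mem hw hw'
  have hratio : ∀ R' : Subgroup G, R' ≤ (S : Subgroup G) →
      Nat.card R' * Nat.card W ≤ Nat.card (R' ⊓ Q : Subgroup G) * Nat.card V := by
    intro R' hR'
    have hS : Nat.card (S : Subgroup G) * Nat.card (A ⊓ Q : Subgroup G) = Nat.card A * Nat.card Q := by
      rw [← CentLarge.card_mul_card_inf A Q]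
      congr 1
      have e : ((A : Set G) * (Q : Set G)) = ((S : Subgroup G) : Set G) := by
        refine Set.Subset.antisymm ?_ fun s hs => ?_
        · rintro _ ⟨a, ha, q, hq, rfl⟩
          exact mul_mem (hA.1 ha) (hQS hq)
        · obtain ⟨a, ha, haq⟩ := hcov s hs
          exact ⟨a, ha, _, haq, mul_inv_cancel_left a s⟩
      exact Nat.card_congr (Equiv.setCongr e.symm)
    have h2 := CentLarge.card_mul_le_of_le hR' hQS
    have h3 : Nat.card R' * Nat.card (A ⊓ Q : Subgroup G) ≤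
        Nat.card A * Nat.card (R' ⊓ Q : Subgroup G) := by
      refine Nat.le_of_mul_le_mul_right ?_ (Nat.card_pos (α := Q))
      calc Nat.card R' * Nat.card (A ⊓ Q : Subgroup G) * Nat.card Q
          = Nat.card R' * Nat.card Q * Nat.card (A ⊓ Q : Subgroup G) := by ring
        _ ≤ Nat.card (S : Subgroup G) * Nat.card (R' ⊓ Q : Subgroup G) *
              Nat.card (A ⊓ Q : Subgroup G) := Nat.mul_le_mul_right _ h2
        _ = Nat.card (S : Subgroup G) * Nat.card (A ⊓ Q : Subgroup G) *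
              Nat.card (R' ⊓ Q : Subgroup G) := by ring
        _ = Nat.card A * Nat.card Q * Nat.card (R' ⊓ Q : Subgroup G) := by rw [hS]
        _ = _ := by ring
    refine Nat.le_of_mul_le_mul_right ?_ (Nat.card_pos (α := (A ⊓ Q : Subgroup G)))
    calc Nat.card R' * Nat.card W * Nat.card (A ⊓ Q : Subgroup G)
        = Nat.card R' * Nat.card (A ⊓ Q : Subgroup G) * Nat.card W := by ring
      _ ≤ Nat.card A * Nat.card (R' ⊓ Q : Subgroup G) * Nat.card W := Nat.mul_le_mul_right _ h3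
      _ = Nat.card (R' ⊓ Q : Subgroup G) * (Nat.card A * Nat.card W) := by ring
      _ = _ := by rw [← hfull]; ring
  set C := R ⊓ centralizer (R : Set G) with hCdef
  have hWC : W ≤ C := fun v hv => hR.1.centre_le ⟨hQS (hVQ hv.1), hv.2⟩
  have hVR : ∀ T : Subgroup G, T ≤ R → R ⊓ Q ⊓ V = R ⊓ V := fun _ _ => by
    rw [inf_assoc, inf_eq_right.2 hVQ]
  have hinfC : C ⊓ Q ⊓ V = W := by
    refine le_antisymm (fun v hv => ?_) (le_inf (le_inf hWC (inf_le_left.trans hVQ)) inf_le_left)
    obtain ⟨r, hr, hrQ⟩ := SetLike.not_le_iff_exists.1 hRQ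
    exact hfix r (hR.1.1 hr) hrQ v hv.2 (mem_centralizer_iff.1 hv.1.1.2 r hr)
  have hcomm : ∀ T : Subgroup G, T ≤ Q → T ≤ centralizer (V : Set G) := fun T hT => hT.trans hQV
  have e1 := Thompson.card_sup_mul_card_inf_of_comm (hcomm (R ⊓ Q) inf_le_right)
  have e2 := Thompson.card_sup_mul_card_inf_of_comm (hcomm (C ⊓ Q) inf_le_right)
  rw [hVR R le_rfl] at e1
  rw [hinfC] at e2
  set R₁ := (R ⊓ Q) ⊔ V with hR₁def
  set Z₁ := (C ⊓ Q) ⊔ V with hZ₁def
  have hR₁S : R₁ ≤ (S : Subgroup G) := sup_le (inf_le_right.trans hQS) (hVQ.trans hQS)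
  have hZ₁ : Z₁ ≤ R₁ ⊓ centralizer (R₁ : Set G) := by
    refine le_inf (sup_le_sup_right (inf_le_inf_right _ inf_le_left) _) ?_
    rw [hR₁def, Thompson.centralizer_sup]
    exact sup_le (le_inf ((inf_le_left.trans inf_le_right).trans (centralizer_le inf_le_left))
        (inf_le_right.trans hQV))
      (le_inf ((le_centralizer_iff.1 hQV).trans (centralizer_le inf_le_right)) hVc)
  have hmax : Nat.card R₁ * Nat.card Z₁ ≤ Nat.card R * Nat.card C :=
    (Nat.mul_le_mul_left _ (card_le_of_le hZ₁)).trans (hR.1.2 R₁ hR₁S)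
  have hr1 := hratio R hR.1.1
  have hr2 := hratio C (inf_le_left.trans hR.1.1)
  have hi : W ≤ R ⊓ V := le_inf (hWC.trans inf_le_left) inf_le_left
  set r := Nat.card R
  set c := Nat.card C
  set v := Nat.card V
  set w := Nat.card W
  set i := Nat.card (R ⊓ V : Subgroup G)
  set a := Nat.card (R ⊓ Q : Subgroup G)
  set cq := Nat.card (C ⊓ Q : Subgroup G)
  set r₁ := Nat.card R₁
  set z₁ := Nat.card Z₁
  have hr0 : 0 < r := Nat.card_pos
  have hc0 : 0 < c := Nat.card_pos
  have hw0 : 0 < w := Nat.card_pos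
  have hv0 : 0 < v := Nat.card_pos
  have ha0 : 0 < a := Nat.card_pos
  have hz0 : 0 < z₁ := Nat.card_pos
  by_cases hCQ : C ≤ Q
  · exfalso
    have hce : cq = c := by show Nat.card (C ⊓ Q : Subgroup G) = _; rw [inf_eq_left.2 hCQ]
    rw [hce] at e2
    have hvi : v ≤ i := by
      refine Nat.le_of_mul_le_mul_left (?_ : a * c * v * v ≤ a * c * v * i) (Nat.mul_pos (Nat.mul_pos ha0 hc0) hv0)
      calc a * c * v * v = (r₁ * i) * (z₁ * w) := by rw [e1, e2]; ring
        _ = r₁ * z₁ * (i * w) := by ring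
        _ ≤ r * c * (i * w) := Nat.mul_le_mul_right _ hmax
        _ = c * i * (r * w) := by ring
        _ ≤ c * i * (a * v) := Nat.mul_le_mul_left _ hr1
        _ = _ := by ring
    have hVle : V ≤ R := (eq_of_le_of_card_ge (inf_le_right : R ⊓ V ≤ V) hvi).ge.trans inf_le_left
    have hR₁ : R₁ = R ⊓ Q := sup_eq_left.2 (le_inf hVle hVQ)
    refine hRQ ((hR.2 (R ⊓ Q) inf_le_left ⟨inf_le_left.trans hR.1.1, fun T hT =>
      (hR.1.2 T hT).trans ?_⟩).ge.trans inf_le_right)
    have hge : z₁ ≤ Nat.card (R₁ ⊓ centralizer (R₁ : Set G) : Subgroup G) := card_le_of_le hZ₁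
    rw [hR₁] at hge
    refine le_trans ?_ (Nat.mul_le_mul_left _ hge)
    show r * c ≤ a * z₁
    refine Nat.le_of_mul_le_mul_right ?_ hw0
    calc r * c * w = c * (r * w) := by ring
      _ ≤ c * (a * v) := Nat.mul_le_mul_left _ hr1
      _ = a * (z₁ * w) := by rw [e2]; ring
      _ = _ := by ring
  obtain ⟨c₀, hc₀, hc₀Q⟩ := SetLike.not_le_iff_exists.1 hCQ
  have hRV : R ⊓ V = W := le_antisymm (fun u hu =>
    hfix c₀ (hR.1.1 hc₀.1) hc₀Q u hu.2 (mem_centralizer_iff.1 hc₀.2 u hu.1).symm) hi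
  have hiw : i = w := by show Nat.card (R ⊓ V : Subgroup G) = _; rw [hRV]
  rw [hiw] at e1
  have hge : r * c * (w * w) ≤ r₁ * z₁ * (w * w) := by
    calc r * c * (w * w) = (r * w) * (c * w) := by ring
      _ ≤ (a * v) * (cq * v) := Nat.mul_le_mul hr1 hr2
      _ = _ := by rw [← e1, ← e2]; ring
  have heq : r₁ * z₁ = r * c := le_antisymm hmax (Nat.le_of_mul_le_mul_right hge (by positivity))
  have hprod : (r * w) * (c * w) = (a * v) * (cq * v) := by
    rw [← e1, ← e2]
    calc (r * w) * (c * w) = r * c * (w * w) := by ring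
      _ = r₁ * z₁ * (w * w) := by rw [heq]
      _ = _ := by ring
  have hrw : r * w = a * v :=
    le_antisymm hr1 (Nat.le_of_mul_le_mul_right
      (hprod.ge.trans (Nat.mul_le_mul_left _ hr2)) (Nat.mul_pos Nat.card_pos hv0))
  have hcw : c * w = cq * v := by
    rw [hrw] at hprod
    exact Nat.eq_of_mul_eq_mul_left (Nat.mul_pos ha0 hv0) hprod
  refine ⟨fun hVle => ?_, mcl_of_card ⟨hR₁S, fun T hT => (hR.1.2 T hT).trans ?_⟩ hR ?_, hRV, hcw, hrw⟩
  · have hVW : V ≤ W := by rw [← hRV]; exact le_inf hVle le_rfl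
    refine hAQ fun b hb => hg.hQ.le ⟨hA.1 hb, mem_centralizer_iff.2 fun u hu => ?_⟩
    exact (mem_centralizer_iff.1 (hVW hu).2 b (hA.1 hb)).symm
  · calc clm R = r₁ * z₁ := heq.symm
      _ ≤ _ := Nat.mul_le_mul_left _ (card_le_of_le hZ₁)
  · exact Nat.eq_of_mul_eq_mul_right hw0 (e1.trans hrw.symm)

/-- Some minimal centrally large subgroup lies in `O_p(G)`. -/
theorem exists_mcl_le_pCore (h : Setup p S M K) {V : Subgroup G} {z : G} (hg : Ground p S V z)
    (hVQ : V ≤ Cfsg.pCore p G) {A : Subgroup G} (hA : AbMax (S : Subgroup G) A)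
    (hAQ : ¬ A ≤ Cfsg.pCore p G) {R : Subgroup G} (hR : MCL (S : Subgroup G) R) :
    ∃ R₀, MCL (S : Subgroup G) R₀ ∧ R₀ ≤ Cfsg.pCore p G := by
  by_cases hRQ : R ≤ Cfsg.pCore p G
  · exact ⟨R, hR, hRQ⟩
  exact ⟨_, (mcl_outside h hg hVQ hA hAQ hR hRQ).2.1, sup_le inf_le_right hVQ⟩

end Cfsg.Agent.PushRankOne
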