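import Cfsg.Agent.PushRankOne.FF

/-!
# Pushing up `Z(J(S))` in the rank-one situation
-/

set_option autoImplicit false
set_option linter.unusedSectionVars false

namespace Cfsg.Agent.PushRankOne

open Subgroup
open Cfsg.Agent.Offender (cj mem_cj)
open scoped commutatorElement

variable {G : Type*} [Group G] [Finite G] {p : ℕ} [Fact p.Prime]

/-- An abelian subgroup of largest order of `S`. -/
def AbMax (S A : Subgroup G) : Prop :=
  A ≤ S ∧ A ≤ centralizer (A : Set G) ∧
    ∀ B : Subgroup G, B ≤ S → B ≤ centralizer (B : Set G) → Nat.card B ≤ Nat.card A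

theorem comm_subgroupOf_iff {S A : Subgroup G} (hA : A ≤ S) :
    IsMulCommutative ↥(A.subgroupOf S) ↔ A ≤ centralizer (A : Set G) := by
  rw [← le_centralizer_iff_isMulCommutative]
  constructor
  · intro h a ha
    exact mem_centralizer_iff.2 fun b hb => congrArg Subtype.val
      (mem_centralizer_iff.1 (h (show (⟨a, hA ha⟩ : S) ∈ A.subgroupOf S from ha)) ⟨b, hA hb⟩ hb)
  · intro h a ha
    exact mem_centralizer_iff.2 fun b hb => Subtype.ext (mem_centralizer_iff.1 (h ha) b hb)

theorem AbMax.mem {S A : Subgroup G} (h : AbMax S A) :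
    A.subgroupOf S ∈ Cfsg.maxAbelianSubgroups ↥S := by
  refine ⟨(comm_subgroupOf_iff h.1).2 h.2.1, fun B hB => ?_⟩
  rw [Nat.card_congr (subgroupOfEquivOfLe h.1).toEquiv,
    ← card_map_of_injective (K := B) S.subtype_injective]
  refine h.2.2 _ (map_subtype_le B) ((comm_subgroupOf_iff (map_subtype_le B)).1 ?_)
  rw [subgroupOf, comap_map_eq_self_of_injective S.subtype_injective]
  exact hB

theorem abMax_map {S : Subgroup G} {A : Subgroup ↥S} (hA : A ∈ Cfsg.maxAbelianSubgroups ↥S) :
    AbMax S (A.map S.subtype) := by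
  refine ⟨map_subtype_le A, (comm_subgroupOf_iff (map_subtype_le A)).1 ?_, fun B hB hBc => ?_⟩
  · rw [subgroupOf, comap_map_eq_self_of_injective S.subtype_injective]
    exact hA.1
  · rw [card_map_of_injective S.subtype_injective, ← Nat.card_congr (subgroupOfEquivOfLe hB).toEquiv]
    exact hA.2 _ ((comm_subgroupOf_iff hB).2 hBc)

theorem AbMax.le_thompson {S A : Subgroup G} (h : AbMax S A) :
    A ≤ Cfsg.thompsonSubgroupAOf S := by
  intro a ha
  exact ⟨⟨a, h.1 ha⟩, le_sSup (s := Cfsg.maxAbelianSubgroups ↥S) h.mem ha, rfl⟩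

theorem thompson_le {S T : Subgroup G} (h : ∀ A, AbMax S A → A ≤ T) :
    Cfsg.thompsonSubgroupAOf S ≤ T := by
  rw [Cfsg.thompsonSubgroupAOf, map_le_iff_le_comap]
  exact sSup_le fun A hA => map_le_iff_le_comap.1 (h _ (abMax_map hA))

theorem exists_abMax (S : Subgroup G) : ∃ A, AbMax S A := by
  obtain ⟨A, hA, hmax⟩ := Set.exists_max_image {A : Subgroup G | A ≤ S ∧ A ≤ centralizer (A : Set G)}
    (fun A => Nat.card A) (Set.toFinite _) ⟨⊥, bot_le, bot_le⟩
  exact ⟨A, hA.1, hA.2, fun B hB hBc => hmax B ⟨hB, hBc⟩⟩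

theorem comm_sup {A D : Subgroup G} (hA : A ≤ centralizer (A : Set G))
    (hD : D ≤ centralizer (D : Set G)) (hAD : D ≤ centralizer (A : Set G)) :
    A ⊔ D ≤ centralizer ((A ⊔ D : Subgroup G) : Set G) := by
  rw [Thompson.centralizer_sup]
  exact sup_le (le_inf hA (le_centralizer_iff.1 hAD)) (le_inf hAD hD)

theorem AbMax.le_of_centralizes {S A D : Subgroup G} (h : AbMax S A) (hD : D ≤ S)
    (hDc : D ≤ centralizer (D : Set G)) (hAD : D ≤ centralizer (A : Set G)) : D ≤ A := by
  have e := eq_of_le_of_card_ge (le_sup_left : A ≤ A ⊔ D)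
    (h.2.2 _ (sup_le h.1 hD) (comm_sup h.2.1 hDc hAD))
  rw [e]
  exact le_sup_right

/-- A noncentral point of `Z(S)` of order `p` in a normal abelian subgroup. -/
theorem exists_omega_noncentral_inf (S : Sylow p G) (U : Subgroup G) [hU : U.Normal]
    (hUc : U ≤ centralizer (U : Set G))
    (hnc : ¬ (S : Subgroup G) ⊓ centralizer ((S : Subgroup G) : Set G) ⊓ U ≤ center G) :
    ∃ z ∈ (S : Subgroup G) ⊓ centralizer ((S : Subgroup G) : Set G) ⊓ U, z ^ p = 1 ∧ z ∉ center G := by
  classical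
  by_contra hcon
  push Not at hcon
  have key : ∀ (k : ℕ) (z : G), z ∈ (S : Subgroup G) ⊓ centralizer ((S : Subgroup G) : Set G) ⊓ U →
      z ^ p ^ k = 1 → z ∈ center G := by
    intro k
    induction k with
    | zero =>
      intro z _ hz
      rw [pow_zero, pow_one] at hz
      exact hz ▸ one_mem _
    | succ k ih =>
      intro z hz hzk
      have hzp : z ^ p ∈ center G := ih (z ^ p) (pow_mem hz p) (by rwa [← pow_mul, ← pow_succ'])
      letI : CommGroup U :=
        { (inferInstance : Group U) with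
          mul_comm := fun a b => Subtype.ext (mem_centralizer_iff.1 (hUc b.2) a a.2) }
      letI : Fintype (G ⧸ (S : Subgroup G)) := Fintype.ofFinite _
      let cz : G → U := fun g => ⟨g * z * g⁻¹, hU.conj_mem z hz.2 g⟩
      have hwd : ∀ g h : G, g⁻¹ * h ∈ (S : Subgroup G) → cz g = cz h := fun g h hgh => by
        refine Subtype.ext ?_
        show g * z * g⁻¹ = h * z * h⁻¹
        have h1 : (g⁻¹ * h) * z * (g⁻¹ * h)⁻¹ = z :=
          mul_inv_eq_iff_eq_mul.2 (mem_centralizer_iff.1 hz.1.2 _ hgh)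
        conv_lhs => rw [← h1]
        group
      let f : G ⧸ (S : Subgroup G) → U := fun q =>
        Quotient.liftOn' q cz fun a b hab => hwd a b (QuotientGroup.leftRel_apply.1 hab)
      have hf : ∀ g : G, f (g : G ⧸ (S : Subgroup G)) = cz g := fun _ => rfl
      let N : U := ∏ q, f q
      have hN : ∀ g : G, g * (N : G) * g⁻¹ = N := by
        intro g
        let φ : U →* U :=
          { toFun := fun u => ⟨g * u * g⁻¹, hU.conj_mem _ u.2 g⟩
            map_one' := Subtype.ext (by simp)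
            map_mul' := fun u v => Subtype.ext (by simp [mul_assoc]) }
        have h1 : φ N = ∏ q, f (g • q) := by
          rw [map_prod]
          refine Finset.prod_congr rfl fun q _ => ?_
          induction q using QuotientGroup.induction_on with
          | H a =>
            rw [hf]
            show φ (cz a) = f (↑(g * a))
            rw [hf]
            exact Subtype.ext (by simp [φ, cz, mul_assoc])
        have h2 : ∏ q, f (g • q) = N := Equiv.prod_comp (MulAction.toPerm g) f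
        exact congrArg Subtype.val (h1.trans h2)
      let zU : U := ⟨z, hz.2⟩
      let d : U := ∏ q, f q * zU⁻¹
      have hd : d = N * zU⁻¹ ^ Fintype.card (G ⧸ (S : Subgroup G)) := by
        show ∏ q, f q * zU⁻¹ = _
        rw [Finset.prod_mul_distrib, Finset.prod_const, Finset.card_univ]
      have hdp : d ^ p = 1 := by
        show (∏ q, f q * zU⁻¹) ^ p = 1
        rw [← Finset.prod_pow]
        refine Finset.prod_eq_one fun q _ => ?_
        induction q using QuotientGroup.induction_on with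
        | H a =>
          rw [hf, mul_pow]
          refine Subtype.ext ?_
          show (a * z * a⁻¹) ^ p * z⁻¹ ^ p = 1
          rw [conj_pow, mem_center_iff.1 hzp a, mul_inv_cancel_right, inv_pow, mul_inv_cancel]
      have hzS : ∀ s ∈ (S : Subgroup G), s * z * s⁻¹ = z := fun s hs =>
        mul_inv_eq_iff_eq_mul.2 (mem_centralizer_iff.1 hz.1.2 s hs)
      obtain ⟨m, hm⟩ : ∃ m, m = Fintype.card (G ⧸ (S : Subgroup G)) := ⟨_, rfl⟩
      have hdval : (d : G) = N * z⁻¹ ^ m := by
        rw [hd, hm, Subgroup.coe_mul, Subgroup.coe_pow, Subgroup.coe_inv]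
      have hdC : (d : G) ∈ centralizer ((S : Subgroup G) : Set G) := by
        rw [hdval]
        refine Subgroup.mul_mem _ (mem_centralizer_iff.2 fun s _ => mul_inv_eq_iff_eq_mul.1 (hN s))
          (Subgroup.pow_mem _ (Subgroup.inv_mem _ hz.1.2) m)
      have hdS : (d : G) ∈ (S : Subgroup G) := by
        have hdU : (d : G) ∈ U := d.2
        have hp' : IsPGroup p (zpowers (d : G)) := Thompson.ea_isPGroup
          (Thompson.ea_zpowers (by
            rw [← Subgroup.coe_pow, hdp, Subgroup.coe_one]))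
        have hsup : (S : Subgroup G) = (S : Subgroup G) ⊔ zpowers (d : G) :=
          (S.3 (by
            rw [sup_comm]
            exact hp'.to_sup_of_normal_right' S.2
              (zpowers_le.2 (centralizer_le_normalizer _ hdC))) le_sup_left).symm
        rw [hsup]
        exact mem_sup_right (mem_zpowers _)
      have hdc : (d : G) ∈ center G := hcon _ ⟨⟨hdS, hdC⟩, d.2⟩ (by
        rw [← Subgroup.coe_pow, hdp, Subgroup.coe_one])
      have hzm : z ^ m ∈ center G := by
        have e : z ^ m = (d : G)⁻¹ * N := by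
          rw [hdval, mul_inv_rev, inv_pow, inv_inv, mul_assoc, inv_mul_cancel, mul_one]
        rw [e]
        exact mul_mem (inv_mem hdc) (mem_center_iff.2 fun g => mul_inv_eq_iff_eq_mul.1 (hN g))
      have hcop : Nat.Coprime p m := by
        refine (Fact.out : p.Prime).coprime_iff_not_dvd.2 ?_
        rw [hm, ← Nat.card_eq_fintype_card]
        exact S.not_dvd_index
      have hb := Nat.gcd_eq_gcd_ab p m
      rw [hcop, Nat.cast_one] at hb
      have : z = (z ^ p) ^ Nat.gcdA p m * (z ^ m) ^ Nat.gcdB p m := by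
        rw [← zpow_natCast, ← zpow_natCast, ← zpow_mul, ← zpow_mul, ← zpow_add, ← hb, zpow_one]
      rw [this]
      exact mul_mem (zpow_mem hzp _) (zpow_mem hzm _)
  refine hnc fun z hz => ?_
  obtain ⟨k, hk⟩ := S.2 ⟨z, hz.1.1⟩
  exact key k z hz (by simpa using congrArg Subtype.val hk)

/-- A noncentral point of `Z(S)` of order `p`. -/
theorem exists_omega_noncentral (S : Sylow p G) (U : Subgroup G) [hU : U.Normal]
    (hUc : U ≤ centralizer (U : Set G))
    (hZU : (S : Subgroup G) ⊓ centralizer ((S : Subgroup G) : Set G) ≤ U)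
    (hnc : ¬ (S : Subgroup G) ⊓ centralizer ((S : Subgroup G) : Set G) ≤ center G) :
    ∃ z ∈ (S : Subgroup G) ⊓ centralizer ((S : Subgroup G) : Set G), z ^ p = 1 ∧ z ∉ center G := by
  obtain ⟨z, hz, h1, h2⟩ := exists_omega_noncentral_inf S U hUc (by rwa [inf_eq_left.2 hZU])
  exact ⟨z, hz.1, h1, h2⟩

variable {S : Sylow p G} {M K : Subgroup G}

/-- `Z(J(S))` and `C_S(Z(J(S)))`. -/
abbrev zj (S : Sylow p G) : Subgroup G := Cfsg.centerThompsonAOf (S : Subgroup G)

theorem zj_le (S : Sylow p G) {A : Subgroup G} (hA : AbMax (S : Subgroup G) A) : zj S ≤ A :=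
  hA.le_of_centralizes ((inf_le_left : zj S ≤ _).trans (map_subtype_le _))
    (fun _ hx => centralizer_le (inf_le_left : zj S ≤ _) hx.2)
    (fun _ hx => centralizer_le hA.le_thompson hx.2)

theorem center_sylow_le_zj (S : Sylow p G) :
    (S : Subgroup G) ⊓ centralizer ((S : Subgroup G) : Set G) ≤ zj S := by
  obtain ⟨A, hA⟩ := exists_abMax (S : Subgroup G)
  refine le_inf ?_ (inf_le_right.trans (centralizer_le (map_subtype_le _)))
  exact (hA.le_of_centralizes inf_le_left (fun _ hx => centralizer_le inf_le_left hx.2)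
    (inf_le_right.trans (centralizer_le hA.1))).trans hA.le_thompson

theorem mem_zj_conj (S : Sylow p G) {s v : G} (hs : s ∈ (S : Subgroup G)) (hv : v ∈ zj S) :
    s * v * s⁻¹ ∈ zj S := by
  have hJ : ∀ {t w : G}, t ∈ (S : Subgroup G) → w ∈ Cfsg.thompsonSubgroupAOf (S : Subgroup G) →
      t * w * t⁻¹ ∈ Cfsg.thompsonSubgroupAOf (S : Subgroup G) := by
    intro t w ht hw
    have hle : Cfsg.thompsonSubgroupAOf (S : Subgroup G) ≤
        (Cfsg.thompsonSubgroupAOf (S : Subgroup G)).comap (MulAut.conj t).toMonoidHom := by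
      refine thompson_le fun A hA => ?_
      rw [← map_le_iff_le_comap]
      refine AbMax.le_thompson ⟨?_, ?_, fun B hB hBc => ?_⟩
      · rintro _ ⟨a, ha, rfl⟩
        exact (S : Subgroup G).mul_mem ((S : Subgroup G).mul_mem ht (hA.1 ha)) ((S : Subgroup G).inv_mem ht)
      · rintro _ ⟨a, ha, rfl⟩
        refine mem_centralizer_iff.2 ?_
        rintro _ ⟨b, hb, rfl⟩
        rw [← map_mul, ← map_mul, mem_centralizer_iff.1 (hA.2.1 ha) b hb]
      · rw [card_map_of_injective (MulAut.conj t).injective]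
        exact hA.2.2 B hB hBc
    exact hle hw
  refine ⟨hJ hs hv.1, mem_centralizer_iff.2 fun w hw => ?_⟩
  have h1 := mem_centralizer_iff.1 hv.2 _ (hJ ((S : Subgroup G).inv_mem hs) hw)
  calc w * (s * v * s⁻¹) = s * ((s⁻¹ * w * s⁻¹⁻¹) * v) * s⁻¹ := by group
    _ = s * (v * (s⁻¹ * w * s⁻¹⁻¹)) * s⁻¹ := by rw [h1]
    _ = _ := by group

/-- The dichotomy. -/
theorem main (h : Setup p S M K)
    (hnc : ¬ (S : Subgroup G) ⊓ centralizer ((S : Subgroup G) : Set G) ≤ center G) :
    ((S : Subgroup G) ⊓ centralizer (zj S : Set G)).Normal ∨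
      ((∃ P : Sylow p ↥(normalClosure (((S : Subgroup G) ⊓ centralizer (zj S : Set G) : Subgroup G) : Set G)),
          (P : Subgroup ↥(normalClosure (((S : Subgroup G) ⊓ centralizer (zj S : Set G) : Subgroup G) : Set G))) =
            ((S : Subgroup G) ⊓ centralizer (zj S : Set G)).subgroupOf _) ∧
        ∃ E : Subgroup G, E.Normal ∧
          (∀ e ∈ E, e ∈ centralizer ((S : Subgroup G) : Set G) → e ∈ center G) ∧
          ∀ z₀ ∈ zj S, ∃ w ∈ (S : Subgroup G) ⊓ centralizer ((S : Subgroup G) : Set G), w ^ p = 1 ∧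
            ∃ d ∈ E, z₀ = w * d) := by
  classical
  haveI := h.hK
  set Z := (S : Subgroup G) ⊓ centralizer ((S : Subgroup G) : Set G) with hZ
  set Q := Cfsg.pCore p G with hQdef
  set B := (S : Subgroup G) ⊓ centralizer (zj S : Set G) with hBdef
  have hQS : Q ≤ (S : Subgroup G) := Core.pCore_le_sylow S
  have hQn : Q.Normal := inferInstance
  have hZnorm : ∀ {T : Subgroup G}, T.Normal → Z ≤ T → normalClosure (Z : Set G) ≤ T :=
    fun {T} hT hle => haveI := hT; normalClosure_le_normal hle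
  set U := normalClosure (Z : Set G) with hUdef
  have hZU : Z ≤ U := le_normalClosure
  have hUZQ : U ≤ Q ⊓ centralizer (Q : Set G) := by
    refine hZnorm inferInstance ?_
    have h1 : Z ≤ centralizer (Q : Set G) := inf_le_right.trans (centralizer_le hQS)
    exact le_inf (h1.trans h.hC) h1
  have hUc : U ≤ centralizer (U : Set G) :=
    hUZQ.trans (inf_le_right.trans (centralizer_le (hUZQ.trans inf_le_left)))
  set V := Cfsg.omegaOne p U with hVdef
  have hVU : V ≤ U := Thompson.omegaOne_le p U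
  have hVea : Cfsg.IsElementaryAbelian p V := Thompson.omegaOne_ea hUc
  haveI hVn : V.Normal := by
    rw [← normalizer_eq_top_iff, eq_top_iff]
    refine Subgroup.le_normalizer_iff.mpr fun g _ v hv => ?_
    have := Thompson.omegaOne_map_of_injective (p := p) (f := (MulAut.conj g).toMonoidHom)
      (MulAut.conj g).injective U
    have hm : g * v * g⁻¹ ∈ V.map (MulAut.conj g).toMonoidHom := ⟨v, hv, rfl⟩
    rw [hVdef, this] at hm
    refine (Thompson.omegaOne_mono (p := p) ?_) hm
    rintro _ ⟨y, hy, rfl⟩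
    exact (inferInstance : U.Normal).conj_mem y hy g
  obtain ⟨z, hz, hzp, hzG⟩ := exists_omega_noncentral S U hUc hZU hnc
  have hzV : z ∈ V := Thompson.mem_omegaOne (hZU hz) hzp
  have hVQ : V ≤ Q := hVU.trans (hUZQ.trans inf_le_left)
  have hQV : Q ≤ centralizer (V : Set G) :=
    le_centralizer_iff.1 (hVU.trans (hUZQ.trans inf_le_right))
  have hg : Ground p S V z := by
    refine ⟨hVn, hVea, le_antisymm ?_ (le_inf hQS hQV), hzV, hz.2, hzG⟩
    have hn : (centralizer (V : Set G)).Normal := inferInstance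
    refine @Setup₀.normal_inf_le _ _ _ _ _ S M K h.toSetup₀ _ hn fun g hgc => ?_
    by_contra hgM
    have := h.eq_top_of_not_le (H := centralizer ({z} : Set G)) (fun s hs =>
      mem_centralizer_singleton_iff.2 (mem_centralizer_iff.1 hz.2 s hs)) fun hle =>
      hgM (hle (mem_centralizer_singleton_iff.2 (mem_centralizer_iff.1 hgc z hzV).symm))
    exact hzG (mem_center_iff.2 fun k => mem_centralizer_singleton_iff.1 (this.ge (mem_top k)))
  by_cases hall : ∀ A, AbMax (S : Subgroup G) A → A ≤ Q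
  · -- `J(S) = J(O_p(G))`
    left
    haveI hJn : (Cfsg.thompsonSubgroupAOf (S : Subgroup G)).Normal := by
      refine ⟨fun v hv g => ?_⟩
      have hle : Cfsg.thompsonSubgroupAOf (S : Subgroup G) ≤
          (Cfsg.thompsonSubgroupAOf (S : Subgroup G)).comap (MulAut.conj g).toMonoidHom := by
        refine thompson_le fun A hA => ?_
        rw [← map_le_iff_le_comap]
        refine AbMax.le_thompson ⟨?_, ?_, fun B hB hBc => ?_⟩
        · rintro _ ⟨a, ha, rfl⟩
          exact hQS (hQn.conj_mem a (hall A hA ha) g)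
        · rintro _ ⟨a, ha, rfl⟩
          refine mem_centralizer_iff.2 ?_
          rintro _ ⟨b, hb, rfl⟩
          rw [← map_mul, ← map_mul, mem_centralizer_iff.1 (hA.2.1 ha) b hb]
        · rw [card_map_of_injective (MulAut.conj g).injective]
          exact hA.2.2 B hB hBc
      exact hle hv
    haveI : (zj S).Normal := by
      show (Cfsg.thompsonSubgroupAOf (S : Subgroup G) ⊓
        centralizer (Cfsg.thompsonSubgroupAOf (S : Subgroup G) : Set G)).Normal
      infer_instance
    have hCM : centralizer (zj S : Set G) ≤ M := by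
      intro g hgc
      by_contra hgM
      have := h.eq_top_of_not_le (H := centralizer ({z} : Set G)) (fun s hs =>
        mem_centralizer_singleton_iff.2 (mem_centralizer_iff.1 hz.2 s hs)) fun hle =>
        hgM (hle (mem_centralizer_singleton_iff.2
          (mem_centralizer_iff.1 hgc z (center_sylow_le_zj S hz)).symm))
      exact hzG (mem_center_iff.2 fun k => mem_centralizer_singleton_iff.1 (this.ge (mem_top k)))
    have hBQ : B = Q ⊓ centralizer (zj S : Set G) :=
      le_antisymm (le_inf (h.normal_inf_le hCM) inf_le_right) (inf_le_inf_right _ hQS)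
    rw [hBQ]
    infer_instance
  right
  push Not at hall
  obtain ⟨A, hA, hAQ⟩ := hall
  have hAc : ∀ a ∈ A, ∀ b ∈ A, a * b = b * a := fun a ha b hb =>
    mem_centralizer_iff.1 (hA.2.1 hb) a ha
  -- exchanging part of `A` for `V`
  have hX : ∀ T : Subgroup G, AbMax (S : Subgroup G) T →
      ((T ⊓ Q) ⊔ V ≤ (S : Subgroup G) ∧
        (T ⊓ Q) ⊔ V ≤ centralizer (((T ⊓ Q) ⊔ V : Subgroup G) : Set G) ∧
        Nat.card ((T ⊓ Q) ⊔ V : Subgroup G) * Nat.card (V ⊓ centralizer (T : Set G) : Subgroup G) =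
          Nat.card (T ⊓ Q : Subgroup G) * Nat.card V) := by
    intro T hT
    have hc : V ≤ centralizer ((T ⊓ Q : Subgroup G) : Set G) :=
      (le_centralizer_iff.1 hQV).trans (centralizer_le inf_le_right)
    refine ⟨sup_le (inf_le_left.trans hT.1) (hVQ.trans hQS),
      comm_sup (inf_le_left.trans (hT.2.1.trans (centralizer_le inf_le_left)))
        (Thompson.ea_iff.1 hVea).1 hc, ?_⟩
    have hTV : T ⊓ Q ⊓ V = V ⊓ centralizer (T : Set G) := by
      refine le_antisymm (le_inf inf_le_right ((inf_le_left.trans inf_le_left).trans hT.2.1))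
        (le_inf (le_inf ?_ (inf_le_left.trans hVQ)) inf_le_left)
      exact hT.le_of_centralizes (inf_le_left.trans (hVQ.trans hQS))
        ((inf_le_left.trans (Thompson.ea_iff.1 hVea).1).trans (centralizer_le inf_le_left))
        inf_le_right
    rw [← hTV]
    exact Thompson.card_sup_mul_card_inf_of_comm (le_centralizer_iff.1 hc)
  have hbd : ∀ T : Subgroup G, AbMax (S : Subgroup G) T →
      Nat.card V * Nat.card (T ⊓ Q : Subgroup G) ≤
        Nat.card T * Nat.card (V ⊓ centralizer (T : Set G) : Subgroup G) := by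
    intro T hT
    obtain ⟨h1, h2, h3⟩ := hX T hT
    rw [mul_comm (Nat.card V), ← h3]
    exact Nat.mul_le_mul_right _ (hT.2.2 _ h1 h2)
  obtain ⟨hcov, hWS, hfullcard, hgen⟩ := hg.full h.toSetup₀ A hA.1 hAQ (hbd A hA)
  obtain ⟨hX1, hX2, hX3⟩ := hX A hA
  -- the maximal abelian subgroups inside `Q`
  set Y := ⨅ T : {T : Subgroup G // AbMax (S : Subgroup G) T ∧ T ≤ Q}, (T : Subgroup G) with hYdef
  have hAX : AbMax (S : Subgroup G) ((A ⊓ Q) ⊔ V) := by
    refine ⟨hX1, hX2, fun B' hB' hBc' => (hA.2.2 B' hB' hBc').trans (le_of_eq ?_)⟩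
    refine Nat.eq_of_mul_eq_mul_right (Nat.card_pos (α := (V ⊓ centralizer (A : Set G) : Subgroup G))) ?_
    rw [hX3, mul_comm (Nat.card (A ⊓ Q : Subgroup G)), ← hfullcard]
  have hAXQ : (A ⊓ Q) ⊔ V ≤ Q := sup_le inf_le_right hVQ
  have hY : ∀ y ∈ Y, ∀ T : Subgroup G, AbMax (S : Subgroup G) T → T ≤ Q → y ∈ T :=
    fun y hy T hT hTQ => (mem_iInf.1 hy) ⟨T, hT, hTQ⟩
  have hYT : ∀ T : Subgroup G, AbMax (S : Subgroup G) T → ∀ y ∈ Y, ∀ a ∈ T,
      a * y * a⁻¹ * y⁻¹ ∈ V := by
    intro T hT y hy a ha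
    by_cases hTQ : T ≤ Q
    · rw [mem_centralizer_iff.1 (hT.2.1 (hY y hy T hT hTQ)) a ha, mul_inv_cancel_right,
        mul_inv_cancel]
      exact one_mem V
    obtain ⟨-, -, hfc, -⟩ := hg.full h.toSetup₀ T hT.1 hTQ (hbd T hT)
    obtain ⟨t1, t2, t3⟩ := hX T hT
    have hTX : AbMax (S : Subgroup G) ((T ⊓ Q) ⊔ V) := by
      refine ⟨t1, t2, fun B' hB' hBc' => (hT.2.2 B' hB' hBc').trans (le_of_eq ?_)⟩
      refine Nat.eq_of_mul_eq_mul_right (Nat.card_pos (α := (V ⊓ centralizer (T : Set G) : Subgroup G))) ?_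
      rw [t3, mul_comm (Nat.card (T ⊓ Q : Subgroup G)), ← hfc]
    have hm := hY y hy _ hTX (sup_le inf_le_right hVQ)
    obtain ⟨w, hw, v, hv, rfl⟩ := PMinOff.exists_mul_of_mem_sup t2 le_sup_left le_sup_right hm
    have hwa : a * w * a⁻¹ = w :=
      mul_inv_eq_iff_eq_mul.2 (mem_centralizer_iff.1 (hT.2.1 hw.1) a ha)
    rw [show a * (w * v) * a⁻¹ * (w * v)⁻¹ = (a * w * a⁻¹) * (a * v * a⁻¹ * v⁻¹) * w⁻¹ by group, hwa]
    exact hVn.conj_mem _ (mul_mem (hVn.conj_mem v hv a) (inv_mem hv)) w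
  have hYn : Y.Normal := by
    refine ⟨fun y hy g => mem_iInf.2 fun T => ?_⟩
    have hT' : AbMax (S : Subgroup G) (cj g⁻¹ (T : Subgroup G)) ∧ cj g⁻¹ (T : Subgroup G) ≤ Q := by
      have hle : cj g⁻¹ (T : Subgroup G) ≤ Q := by
        rintro _ ⟨t, ht, rfl⟩
        exact hQn.conj_mem t (T.2.2 ht) g⁻¹
      refine ⟨⟨hle.trans hQS, ?_, fun B' hB' hBc' => ?_⟩, hle⟩
      · rintro _ ⟨a, ha, rfl⟩
        refine mem_centralizer_iff.2 ?_
        rintro _ ⟨b, hb, rfl⟩
        rw [← map_mul, ← map_mul, mem_centralizer_iff.1 (T.2.1.2.1 ha) b hb]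
      · rw [card_map_of_injective (MulAut.conj g⁻¹).injective]
        exact T.2.1.2.2 B' hB' hBc'
    have := mem_cj.1 (hY y hy _ hT'.1 hT'.2)
    simpa [mul_assoc] using this
  have hZY : zj S ≤ Y := le_iInf fun T => zj_le S T.2.1
  have hcjA : ∀ (g : G), ∀ b ∈ cj g A, ∀ y ∈ Y, b * y * b⁻¹ * y⁻¹ ∈ V := by
    intro g b hb y hy
    have hy' := hYn.conj_mem y hy g⁻¹
    rw [inv_inv] at hy'
    have h1 := hVn.conj_mem _ (hYT A hA _ hy' _ (mem_cj.1 hb)) g
    rwa [show g * (g⁻¹ * b * g * (g⁻¹ * y * g) * (g⁻¹ * b * g)⁻¹ * (g⁻¹ * y * g)⁻¹) * g⁻¹ =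
      b * y * b⁻¹ * y⁻¹ by group] at h1
  have hcjM : ∀ g : G, g ∉ M → ¬ cj g A ≤ M := by
    intro g hgM hle
    obtain ⟨a, ha, haQ⟩ := SetLike.not_le_iff_exists.1 hAQ
    refine h.conj_notMem (hA.1 ha) haQ hgM (hle (mem_cj.2 ?_))
    simpa [mul_assoc] using ha
  obtain ⟨x, hxM⟩ : ∃ x : G, x ∉ M := by
    by_contra hcon
    push Not at hcon
    exact h.hM.1 (eq_top_iff.2 fun g _ => hcon g)
  set Y₁ := zj S ⊔ V with hY₁
  haveI hY₁n : Y₁.Normal := by
    rw [← normalizer_eq_top_iff]
    refine top_le_iff.1 ((h.eq_top_of_not_le (H := (S : Subgroup G) ⊔ cj x A) le_sup_left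
      fun hle => hcjM x hxM (le_sup_right.trans hle)).ge.trans (sup_le ?_ ?_))
    · refine fun s hs => ?_
      rw [mem_normalizer_iff_map_conj_eq]
      refine eq_of_le_of_card_ge ?_ (card_map_of_injective (MulAut.conj s).injective).ge
      rw [Subgroup.map_sup]
      refine sup_le_sup ?_ ?_
      · rintro _ ⟨v, hv, rfl⟩
        exact mem_zj_conj S hs hv
      · rintro _ ⟨v, hv, rfl⟩
        exact hVn.conj_mem v hv s
    · intro b hb
      rw [mem_normalizer_iff_map_conj_eq]
      refine eq_of_le_of_card_ge ?_ (card_map_of_injective (MulAut.conj b).injective).ge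
      rw [Subgroup.map_sup]
      refine sup_le ?_ ?_
      · rintro _ ⟨v, hv, rfl⟩
        show b * v * b⁻¹ ∈ zj S ⊔ V
        rw [show b * v * b⁻¹ = (b * v * b⁻¹ * v⁻¹) * v by group]
        exact mul_mem (mem_sup_right (hcjA x b hb v (hZY hv))) (mem_sup_left hv)
      · rintro _ ⟨v, hv, rfl⟩
        exact mem_sup_right (hVn.conj_mem v hv b)
  have hAB : A ≤ B := le_inf hA.1 fun a ha => mem_centralizer_iff.2 fun v hv =>
    mem_centralizer_iff.1 (hA.2.1 ha) v (zj_le S hA hv)
  set N := normalClosure (B : Set G) with hNdef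
  haveI hNn : N.Normal := inferInstance
  have hNM : ¬ N ≤ M := fun hle => by
    refine hcjM x hxM (le_trans ?_ hle)
    intro b hb
    have h1 := hNn.conj_mem _ (le_normalClosure (H := B) (hAB (mem_cj.1 hb))) x
    simpa [mul_assoc] using h1
  have hgenBQ : (B ⊔ cj x B) ⊔ Q = ⊤ := by
    refine h.eq_top_of_not_le (fun s hs => ?_) fun hle => hcjM x hxM
      (le_trans (Offender.cj_mono hAB) ((le_sup_right.trans le_sup_left).trans hle))
    obtain ⟨a, ha, hq⟩ := hcov s hs
    have := mul_mem (mem_sup_left (T := Q) (mem_sup_left (T := cj x B) (hAB ha)))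
      (mem_sup_right (S := B ⊔ cj x B) hq)
    rwa [mul_inv_cancel_left] at this
  have hNH : N ≤ B ⊔ cj x B := by
    haveI : (B ⊔ cj x B).Normal := by
      rw [← normalizer_eq_top_iff]
      refine top_le_iff.1 (hgenBQ.ge.trans (sup_le le_normalizer fun q hq => ?_))
      have hQB : ∀ q ∈ Q, ∀ b ∈ B, q * b * q⁻¹ ∈ B := fun q hq b hb => by
        have hqS := hQS hq
        refine ⟨(S : Subgroup G).mul_mem ((S : Subgroup G).mul_mem hqS hb.1)
          ((S : Subgroup G).inv_mem hqS), mem_centralizer_iff.2 fun v hv => ?_⟩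
        have h1 := mem_centralizer_iff.1 hb.2 _ (mem_zj_conj S ((S : Subgroup G).inv_mem hqS) hv)
        calc v * (q * b * q⁻¹) = q * ((q⁻¹ * v * q⁻¹⁻¹) * b) * q⁻¹ := by group
          _ = q * (b * (q⁻¹ * v * q⁻¹⁻¹)) * q⁻¹ := by rw [h1]
          _ = _ := by group
      rw [mem_normalizer_iff_map_conj_eq]
      refine eq_of_le_of_card_ge ?_ (card_map_of_injective (MulAut.conj q).injective).ge
      rw [Subgroup.map_sup]
      refine sup_le_sup ?_ ?_
      · rintro _ ⟨b, hb, rfl⟩
        exact hQB q hq b hb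
      · rintro _ ⟨b, hb, rfl⟩
        refine mem_cj.2 ?_
        have h1 := hQB (x⁻¹ * q * x) (by simpa using hQn.conj_mem q hq x⁻¹) _ (mem_cj.1 hb)
        simpa [mul_assoc] using h1
    exact normalClosure_le_normal (show B ≤ B ⊔ cj x B from le_sup_left)
  set E := Y₁ ⊓ centralizer (N : Set G) with hEdef
  haveI hEn : E.Normal := inferInstance
  have hEc : ∀ e ∈ E, e ∈ centralizer ((S : Subgroup G) : Set G) → e ∈ center G := by
    intro e he hec
    have htop := h.eq_top_of_not_le (H := centralizer ({e} : Set G))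
      (fun s hs => mem_centralizer_singleton_iff.2 (mem_centralizer_iff.1 hec s hs))
      (fun hle => hNM fun n hn => hle (mem_centralizer_singleton_iff.2
        (mem_centralizer_iff.1 he.2 n hn)))
    exact mem_center_iff.2 fun k => mem_centralizer_singleton_iff.1 (htop.ge (mem_top k))
  obtain ⟨hdec, -⟩ := hgen x hxM
  have hW0 : ∀ w ∈ V ⊓ centralizer (A : Set G), w ∈ Z ∧ w ^ p = 1 := fun w hw => by
    have hw' := hWS.le hw
    exact ⟨⟨hQS (hVQ hw.1), hw'.2⟩, hVea.2 w hw.1⟩
  have hsplit : ∀ z₀ ∈ zj S, ∃ w ∈ Z, w ^ p = 1 ∧ ∃ d ∈ E, z₀ = w * d := by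
    intro z₀ hz₀
    have hm : x⁻¹ * z₀ * x ∈ Y₁ := by
      simpa using hY₁n.conj_mem z₀ (mem_sup_left hz₀) x⁻¹
    obtain ⟨y', hy', v, hv, hyv⟩ := PMinOff.exists_mul_of_mem_sup
      (V := Y) (fun a ha => mem_centralizer_iff.2 fun b hb => by
        have hbX := hY b hb _ hAX hAXQ
        exact mem_centralizer_iff.1 (hX2 (hY a ha _ hAX hAXQ)) b hbX)
      hZY (le_iInf fun T => T.2.1.le_of_centralizes (hVQ.trans hQS) (Thompson.ea_iff.1 hVea).1
        ((le_centralizer_iff.1 hQV).trans (centralizer_le T.2.2))) hm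
    obtain ⟨w, hw, w', hw', hwv⟩ := hdec (x * v * x⁻¹) (hVn.conj_mem v hv x)
    obtain ⟨hwZ, hwp⟩ := hW0 w hw
    have hw'Z : w' ∈ zj S := center_sylow_le_zj S (hW0 w' hw').1
    refine ⟨w, hwZ, hwp, w⁻¹ * z₀, ⟨Subgroup.mul_mem _ (Subgroup.inv_mem _ (mem_sup_left (center_sylow_le_zj S hwZ)))
      (mem_sup_left hz₀), ?_⟩, by group⟩
    have e : w⁻¹ * z₀ = x * (w' * y') * x⁻¹ := by
      have hcm : y' * v = v * y' :=
        mem_centralizer_iff.1 (hQV (hAXQ (hY y' (hZY hy') _ hAX hAXQ))) v hv |>.symm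
      have h1 : z₀ = (x * v * x⁻¹) * (x * y' * x⁻¹) := by
        rw [show x * v * x⁻¹ * (x * y' * x⁻¹) = x * (v * y') * x⁻¹ by group, ← hcm, hyv]
        group
      rw [h1, ← hwv]
      group
    refine mem_centralizer_iff.2 fun n hn => ?_
    have hd : ∀ k ∈ B ⊔ cj x B, k * (w⁻¹ * z₀) = (w⁻¹ * z₀) * k := by
      intro k hk
      have hle : B ⊔ cj x B ≤ centralizer ({w⁻¹ * z₀} : Set G) := by
        refine sup_le (fun b hb => mem_centralizer_singleton_iff.2 ?_) fun b hb =>
          mem_centralizer_singleton_iff.2 ?_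
        · exact (mem_centralizer_iff.1 hb.2 _
            (mul_mem (inv_mem (center_sylow_le_zj S hwZ)) hz₀)).symm
        · have h1 := mem_centralizer_iff.1 (mem_cj.1 hb).2 (w' * y') (mul_mem hw'Z hy')
          rw [e]
          calc b * (x * (w' * y') * x⁻¹) = x * ((x⁻¹ * b * x) * (w' * y')) * x⁻¹ := by group
            _ = x * ((w' * y') * (x⁻¹ * b * x)) * x⁻¹ := by rw [h1]
            _ = _ := by group
      exact mem_centralizer_singleton_iff.1 (hle hk)
    exact hd n (hNH hn)
  refine ⟨?_, E, hEn, hEc, hsplit⟩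
  obtain ⟨R, hR⟩ := Cfsg.Agent.SylowNumber.exists_sylow_inf S N
  refine ⟨R, hR.trans (congrArg (fun T : Subgroup G => T.subgroupOf N) ?_)⟩
  refine le_antisymm (fun n hn => ⟨hn.1, mem_centralizer_iff.2 fun v hv => ?_⟩)
    (le_inf inf_le_left le_normalClosure)
  obtain ⟨w, hw, -, d, hd, rfl⟩ := hsplit v hv
  have e1 : n * w = w * n := mem_centralizer_iff.1 hw.2 n hn.1
  have e2 : n * d = d * n := mem_centralizer_iff.1 hd.2 n hn.2
  rw [mul_assoc, ← e2, ← mul_assoc, ← e1, mul_assoc]

end Cfsg.Agent.PushRankOne
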