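import Cfsg.Agent.Classical.SL2Gen
import Cfsg.Agent.Classical.LinearBasic

/-!
# Sylow `p`-subgroups of `PSL₂` in characteristic `p`
-/

set_option autoImplicit false
set_option linter.unusedSectionVars false

namespace Cfsg.Agent.PushRankOne

open Matrix Cfsg.Agent.Classical
open scoped MatrixGroups

variable {F : Type*} [Field F] [Fintype F] (p : ℕ) [Fact p.Prime] [CharP F p]

theorem neg_one_eq_one_of_two (h2 : p = 2) : (-1 : F) = 1 := by
  subst h2
  exact CharTwo.neg_eq _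

theorem center_val {z : SL(2, F)} (hz : z ∈ Subgroup.center SL(2, F)) : z = 1 ∨ (z ^ 2 = 1 ∧ p ≠ 2) := by
  obtain ⟨r, hr, hz'⟩ := Matrix.SpecialLinearGroup.mem_center_iff.mp hz
  have hr2 : r = 1 ∨ r = -1 := by
    rw [Fintype.card_fin] at hr
    exact sq_eq_one_iff.mp hr
  rcases hr2 with h | h
  · exact Or.inl (Subtype.ext (by rw [← hz', h, Matrix.scalar_apply, Matrix.diagonal_one]; rfl))
  · by_cases h2 : p = 2
    · rw [neg_one_eq_one_of_two (F := F) p h2] at h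
      exact Or.inl (Subtype.ext (by rw [← hz', h, Matrix.scalar_apply, Matrix.diagonal_one]; rfl))
    · refine Or.inr ⟨Subtype.ext ?_, h2⟩
      rw [Matrix.SpecialLinearGroup.coe_pow, ← hz', ← map_pow, h, neg_one_sq, map_one]
      rfl

theorem eq_one_of_center_pow {z : SL(2, F)} (hz : z ∈ Subgroup.center SL(2, F)) (hp : z ^ p = 1) :
    z = 1 := by
  rcases center_val p hz with h | ⟨h, h2⟩
  · exact h
  · have hodd : Odd p := (Fact.out : p.Prime).odd_of_ne_two h2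
    obtain ⟨k, hk⟩ := hodd
    rwa [hk, pow_succ, pow_mul, h, one_pow, one_mul] at hp

theorem sylow_sl_comm (P : Sylow p SL(2, F)) {a b : SL(2, F)} (ha : a ∈ (P : Subgroup SL(2, F)))
    (hb : b ∈ (P : Subgroup SL(2, F))) : a * b = b * a ∧ a ^ p = 1 := by
  obtain ⟨g, hg⟩ := sylow_sl2_conj p P
  rw [hg] at ha hb
  obtain ⟨_, ⟨c, rfl⟩, rfl⟩ := ha
  obtain ⟨_, ⟨d, rfl⟩, rfl⟩ := hb
  constructor
  · rw [← map_mul, ← map_mul, ← map_mul, ← map_mul, mul_comm]
  · rw [← map_pow, ← map_pow]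
    have : c ^ p = 1 := by
      refine Multiplicative.toAdd.injective ?_
      rw [toAdd_pow, toAdd_one, nsmul_eq_mul, CharP.cast_eq_zero, zero_mul]
    rw [this, map_one, map_one]

theorem exists_two_sylow : ∃ P Q : Sylow p SL(2, F), P ≠ Q := by
  obtain ⟨P, hP⟩ := exists_sylow_rootSL (F := F) p
  let w : SL(2, F) := ⟨!![0, 1; -1, 0], by simp [Matrix.det_fin_two]⟩
  refine ⟨P, w • P, fun h => ?_⟩
  have hmem : w * rootHomSL (Multiplicative.ofAdd 1) * w⁻¹ ∈ (P : Subgroup SL(2, F)) := by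
    have hm : w * rootHomSL (Multiplicative.ofAdd 1) * w⁻¹ ∈ ((w • P : Sylow p SL(2, F)) : Subgroup SL(2, F)) := by
      rw [Sylow.coe_subgroup_smul]
      exact ⟨_, hP.ge ⟨_, rfl⟩, rfl⟩
    rwa [← h] at hm
  rw [hP] at hmem
  obtain ⟨c, hc⟩ := hmem
  have h10 := congrArg (fun g : SL(2, F) => (g : Matrix (Fin 2) (Fin 2) F) 1 0) hc
  simp only [rootHomSL_coe, conj_rootHomSL] at h10
  simp [w] at h10

/-- The quotient map. -/
abbrev proj : SL(2, F) →* Matrix.ProjectiveSpecialLinearGroup (Fin 2) F :=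
  QuotientGroup.mk' _

theorem exists_lift (P : Sylow p (Matrix.ProjectiveSpecialLinearGroup (Fin 2) F)) :
    ∃ P₀ : Sylow p SL(2, F), (P₀ : Subgroup SL(2, F)).map proj = P := by
  obtain ⟨P₀⟩ : Nonempty (Sylow p SL(2, F)) := inferInstance
  obtain ⟨g, hg⟩ := MulAction.exists_smul_eq (Matrix.ProjectiveSpecialLinearGroup (Fin 2) F)
    (P₀.mapSurjective (f := proj) (QuotientGroup.mk'_surjective _)) P
  obtain ⟨g₀, rfl⟩ := QuotientGroup.mk'_surjective _ g
  refine ⟨g₀ • P₀, ?_⟩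
  rw [← hg, Sylow.coe_subgroup_smul, Sylow.coe_subgroup_smul]
  ext x
  constructor
  · rintro ⟨y, ⟨z, hz, rfl⟩, rfl⟩
    exact ⟨proj z, ⟨z, hz, rfl⟩, (map_mul_inv' g₀ z).symm⟩
  · rintro ⟨_, ⟨z, hz, rfl⟩, rfl⟩
    exact ⟨_, ⟨z, hz, rfl⟩, map_mul_inv' g₀ z⟩
where
  map_mul_inv' (g z : SL(2, F)) : proj (g * z * g⁻¹) = proj g * proj z * (proj g)⁻¹ := by
    rw [map_mul, map_mul, map_inv]

/-- `PSL₂`: Sylow subgroups are elementary abelian, pairwise trivially intersecting, and not normal. -/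
theorem psl_sylow :
    (∀ P : Sylow p (Matrix.ProjectiveSpecialLinearGroup (Fin 2) F),
      ∀ a ∈ (P : Subgroup (Matrix.ProjectiveSpecialLinearGroup (Fin 2) F)),
      ∀ b ∈ (P : Subgroup (Matrix.ProjectiveSpecialLinearGroup (Fin 2) F)),
        a * b = b * a ∧ a ^ p = 1) ∧
    (∀ P Q : Sylow p (Matrix.ProjectiveSpecialLinearGroup (Fin 2) F), P ≠ Q →
      ∀ a ∈ (P : Subgroup (Matrix.ProjectiveSpecialLinearGroup (Fin 2) F)),
        a ∈ (Q : Subgroup (Matrix.ProjectiveSpecialLinearGroup (Fin 2) F)) → a = 1) ∧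
    ∃ P Q : Sylow p (Matrix.ProjectiveSpecialLinearGroup (Fin 2) F), P ≠ Q := by
  refine ⟨?_, ?_, ?_⟩
  · intro P a ha b hb
    obtain ⟨P₀, hP₀⟩ := exists_lift p P
    rw [← hP₀] at ha hb
    obtain ⟨a, ha, rfl⟩ := ha
    obtain ⟨b, hb, rfl⟩ := hb
    obtain ⟨h1, h2⟩ := sylow_sl_comm p P₀ ha hb
    exact ⟨by rw [← map_mul, ← map_mul, h1], by rw [← map_pow, h2, map_one]⟩
  · intro P Q hPQ a ha ha'
    obtain ⟨P₀, hP₀⟩ := exists_lift p P
    obtain ⟨Q₀, hQ₀⟩ := exists_lift p Q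
    have hne : P₀ ≠ Q₀ := fun e => hPQ (Sylow.ext (by rw [← hP₀, ← hQ₀, e]))
    rw [← hP₀] at ha
    rw [← hQ₀] at ha'
    obtain ⟨y, hy, rfl⟩ := ha
    obtain ⟨y', hy', he⟩ := ha'
    obtain ⟨z, hz, rfl⟩ : ∃ z ∈ Subgroup.center SL(2, F), y' * z = y :=
      ⟨y'⁻¹ * y, QuotientGroup.eq.mp he, by group⟩
    have hzy : ∀ g, z * g = g * z := fun g => (Subgroup.mem_center_iff.mp hz g).symm
    have hz1 : z = 1 := by
      refine eq_one_of_center_pow p hz ?_
      have h1 := (sylow_sl_comm p P₀ hy hy).2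
      rwa [(Commute.mul_pow (show Commute y' z from (hzy y').symm)),
        (sylow_sl_comm p Q₀ hy' hy').2, one_mul] at h1
    rw [hz1, mul_one] at hy ⊢
    have hc : y' ∈ Subgroup.center SL(2, F) := by
      rw [Subgroup.mem_center_iff]
      intro g
      have hle : (P₀ : Subgroup SL(2, F)) ⊔ Q₀ ≤ Subgroup.centralizer {y'} :=
        sup_le (fun s hs => Subgroup.mem_centralizer_singleton_iff.mpr (sylow_sl_comm p P₀ hs hy).1)
          (fun s hs => Subgroup.mem_centralizer_singleton_iff.mpr (sylow_sl_comm p Q₀ hs hy').1)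
      rw [sylow_sl2_sup p P₀ Q₀ hne] at hle
      exact Subgroup.mem_centralizer_singleton_iff.mp (hle (Subgroup.mem_top g))
    rw [eq_one_of_center_pow p hc (sylow_sl_comm p Q₀ hy' hy').2, map_one]
  · obtain ⟨P₀, Q₀, hne⟩ := exists_two_sylow (F := F) p
    refine ⟨P₀.mapSurjective (f := proj) (QuotientGroup.mk'_surjective _),
      Q₀.mapSurjective (f := proj) (QuotientGroup.mk'_surjective _), fun e => hne (Sylow.ext ?_)⟩
    have e' : (P₀ : Subgroup SL(2, F)).map proj = (Q₀ : Subgroup SL(2, F)).map proj :=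
      congrArg (fun R : Sylow p (Matrix.ProjectiveSpecialLinearGroup (Fin 2) F) =>
        (R : Subgroup (Matrix.ProjectiveSpecialLinearGroup (Fin 2) F))) e
    refine Subgroup.eq_of_le_of_card_ge (fun y hy => ?_)
      (by rw [P₀.card_eq_multiplicity, Q₀.card_eq_multiplicity])
    obtain ⟨y', hy', he⟩ := e'.le ⟨y, hy, rfl⟩
    have hz : y'⁻¹ * y ∈ Subgroup.center SL(2, F) := QuotientGroup.eq.mp he
    have hz1 : y'⁻¹ * y = 1 := by
      refine eq_one_of_center_pow p hz ?_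
      have hcm : Commute y'⁻¹ y := by
        have := Subgroup.mem_center_iff.mp hz y'
        show y'⁻¹ * y = y * y'⁻¹
        calc y'⁻¹ * y = (y' * (y'⁻¹ * y)) * y'⁻¹ := by rw [this]; group
          _ = y * y'⁻¹ := by group
      rw [hcm.mul_pow, inv_pow, (sylow_sl_comm p Q₀ hy' hy').2, (sylow_sl_comm p P₀ hy hy).2,
        inv_one, one_mul]
    rwa [← inv_mul_eq_one.mp hz1]

end Cfsg.Agent.PushRankOne
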