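import Cfsg.Agent.PushRankOne.Setup
import Cfsg.Agent.PMinOff.Group
import Cfsg.Agent.Thompson.Offender.Action

/-!
# A minimal offender on an elementary abelian normal subgroup, transported to the holomorph
-/

set_option autoImplicit false
set_option linter.unusedSectionVars false

namespace Cfsg.Agent.PushRankOne

open Subgroup
open Cfsg.Agent.Offender (cj mem_cj act emb)
open scoped commutatorElement

variable {G : Type*} [Group G] [Finite G] {p : ℕ} [Fact p.Prime]
  {S : Sylow p G} {M K : Subgroup G}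

/-- A normal elementary abelian subgroup on which `S` has kernel `O_p(G)`, with a fixed noncentral
point. -/
structure Ground (p : ℕ) (S : Sylow p G) (V : Subgroup G) (z : G) : Prop where
  hVn : V.Normal
  hV : Cfsg.IsElementaryAbelian p V
  hQ : (S : Subgroup G) ⊓ centralizer (V : Set G) = Cfsg.pCore p G
  hzV : z ∈ V
  hzS : z ∈ centralizer ((S : Subgroup G) : Set G)
  hzG : z ∉ center G

namespace Ground

variable {V : Subgroup G} {z : G} (hg : Ground p S V z) (h : Setup₀ p S M K)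

include hg h

theorem centralizer_le : centralizer (V : Set G) ≤ M := by
  have h1 : centralizer ({z} : Set G) ≤ M := by
    by_contra hnot
    have := h.eq_top_of_not_le (H := centralizer ({z} : Set G)) (fun s hs =>
      mem_centralizer_singleton_iff.2 (mem_centralizer_iff.1 hg.hzS s hs)) hnot
    exact hg.hzG (mem_center_iff.2 fun g =>
      mem_centralizer_singleton_iff.1 (this.ge (mem_top g)))
  exact le_trans (Subgroup.centralizer_le (Set.singleton_subset_iff.2 hg.hzV)) h1

theorem eq_top_of_image {L : Subgroup G} (hL : ¬ L ≤ M)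
    (hS : (S : Subgroup G) ≤ L ⊔ centralizer (V : Set G)) :
    L ⊔ centralizer (V : Set G) = ⊤ :=
  h.eq_top_of_not_le hS fun hle => hL (le_sup_left.trans hle)

/-- The counting for one generating configuration. -/
theorem run (B : Subgroup G) (hBS : B ≤ S)
    (hBQ : ¬ B ≤ Cfsg.pCore p G)
    (hbound : Nat.card V * Nat.card (B ⊓ Cfsg.pCore p G : Subgroup G) ≤
      Nat.card B * Nat.card (V ⊓ centralizer (B : Set G) : Subgroup G))
    (hstrict : ∀ B₁ : Subgroup G, B₁ ≤ B → B ⊓ Cfsg.pCore p G ≤ B₁ → ¬ B₁ ≤ Cfsg.pCore p G →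
      B₁ ≠ B → Nat.card B₁ * Nat.card (V ⊓ centralizer (B₁ : Set G) : Subgroup G) <
        Nat.card B * Nat.card (V ⊓ centralizer (B : Set G) : Subgroup G))
    (L : Subgroup G) (hBL : B ≤ L) (x : G) (hxL : x ∈ L) (hxM : x ∉ M)
    (hgen : ∀ k ∈ L, k ∉ M → L ≤ (B ⊔ cj k B) ⊔ centralizer (V : Set G)) :
    Nat.card (V ⊓ centralizer (B : Set G) : Subgroup G) * Nat.card (B ⊓ Cfsg.pCore p G : Subgroup G) =
        Nat.card B * Nat.card (V ⊓ centralizer (L : Set G) : Subgroup G) ∧
      (∀ v ∈ V, ∃ w ∈ V ⊓ centralizer (B : Set G), ∃ w' ∈ V ⊓ centralizer (B : Set G),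
        w * (x * w' * x⁻¹) = v) ∧
      (∀ a ∈ B, a ∉ Cfsg.pCore p G → ∀ v ∈ V,
        a * v * a⁻¹ * v⁻¹ ∈ V ⊓ centralizer (L : Set G) → v ∈ V ⊓ centralizer (B : Set G)) ∧
      ∀ a ∈ B, ∀ v ∈ V, a * v * a⁻¹ * v⁻¹ ∈ V ⊓ centralizer (B : Set G) := by
  haveI := hg.hVn
  set σ := act V with hσ
  have hker : ∀ g, σ g = 1 ↔ g ∈ centralizer (V : Set G) := fun g => by
    rw [← MonoidHom.mem_ker, hσ, Offender.act_ker]
  have hQC : Cfsg.pCore p G ≤ centralizer (V : Set G) := hg.hQ.ge.trans inf_le_right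
  have hBC : B ⊓ centralizer (V : Set G) = B ⊓ Cfsg.pCore p G := by
    refine le_antisymm (le_inf inf_le_left ?_) (inf_le_inf_left _ hQC)
    exact fun a ha => hg.hQ.le ⟨hBS ha.1, ha.2⟩
  have hCM := hg.centralizer_le h
  have hσM : ∀ g, σ g ∈ M.map σ → g ∈ M := by
    rintro g ⟨m, hm, hme⟩
    have : m⁻¹ * g ∈ centralizer (V : Set G) := (hker _).1 (by
      rw [map_mul, map_inv, ← hme, inv_mul_cancel])
    simpa using M.mul_mem hm (hCM this)
  have hσcj : ∀ (k : G) (X : Subgroup G), (cj k X).map σ = cj (σ k) (X.map σ) := fun k X => by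
    rw [cj, cj, Subgroup.map_map, Subgroup.map_map]
    congr 1
    refine MonoidHom.ext fun g => ?_
    show σ (k * g * k⁻¹) = σ k * σ g * (σ k)⁻¹
    rw [map_mul, map_mul, map_inv]
  let Mb : Subgroup ↥(L.map σ) := (M.map σ).subgroupOf (L.map σ)
  have hO : PMinOff.Off p (emb V V) (L.map σ) (B.map σ) Mb :=
    { hV := Offender.emb_ea hg.hV
      hPV := (map_le_range σ L).trans Offender.act_le_normalizer
      hfaith := by
        rw [eq_bot_iff]
        rintro y ⟨⟨g, -, rfl⟩, hc⟩
        refine mem_bot.2 ((hker g).2 (mem_centralizer_iff.2 fun v hv => ?_))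
        have h1 := mem_centralizer_iff.1 hc _ (Offender.inl_mem_emb (v := ⟨v, hv⟩).2 hv)
        have h2 := Offender.act_conj g ⟨v, hv⟩
        rw [← hσ, ← h1, mul_inv_cancel_right] at h2
        exact (mul_inv_eq_iff_eq_mul.1
          (congrArg Subtype.val (SemidirectProduct.inl_injective h2)).symm).symm
      hA := map_mono hBL
      hAel := by
        refine Thompson.ea_iff.2 ⟨?_, ?_⟩
        · rintro _ ⟨a, ha, rfl⟩
          refine mem_centralizer_iff.2 ?_
          rintro _ ⟨b, hb, rfl⟩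
          have hab : a * b * (b * a)⁻¹ ∈ Cfsg.pCore p G := h.pCore_eq.ge
            ⟨(S : Subgroup G).mul_mem ((S : Subgroup G).mul_mem (hBS ha) (hBS hb))
              ((S : Subgroup G).inv_mem ((S : Subgroup G).mul_mem (hBS hb) (hBS ha))),
              h.comm a (hBS ha) b (hBS hb)⟩
          rw [← map_mul, ← map_mul]
          refine mul_inv_eq_one.1 ?_
          rw [← map_inv, ← map_mul, hker]
          exact hQC (by simpa using inv_mem hab)
        · rintro _ ⟨a, ha, rfl⟩
          rw [← map_pow, hker]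
          exact hQC (h.pCore_eq.ge ⟨pow_mem (hBS ha) p, h.pow a (hBS ha)⟩)
      hAM := fun a ha => map_mono (hBS.trans h.hSM) ha
      gen := by
        intro y hy
        obtain ⟨k, hk, hky⟩ := y.2
        have hkM : k ∉ M := fun hm => hy (show (y : Offender.Hol V) ∈ M.map σ from hky ▸ mem_map_of_mem σ hm)
        rw [← hky, ← hσcj, ← Subgroup.map_sup]
        refine le_antisymm (map_mono (sup_le hBL ?_)) ?_
        · rintro c hc
          simpa [mul_assoc] using L.mul_mem (L.mul_mem hk (hBL (mem_cj.1 hc))) (L.inv_mem hk)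
        · have hb : (centralizer (V : Set G)).map σ = ⊥ :=
            (Subgroup.map_eq_bot_iff _).2 fun g hg' => (hker g).2 hg'
          calc L.map σ ≤ ((B ⊔ cj k B) ⊔ centralizer (V : Set G)).map σ := map_mono (hgen k hk hkM)
            _ = (B ⊔ cj k B).map σ := by rw [Subgroup.map_sup _ (centralizer (V : Set G)), hb, sup_bot_eq]
      notMem := ⟨⟨σ x, mem_map_of_mem σ hxL⟩, fun hm => hxM (hσM x hm)⟩
      bound := by
        rw [Offender.fix_act, Offender.card_emb le_rfl, Offender.card_emb inf_le_left]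
        refine Nat.le_of_mul_le_mul_right ?_ (Nat.card_pos (α := (B ⊓ Cfsg.pCore p G : Subgroup G)))
        have e := Offender.card_map_act_mul (V := V) B
        rw [hBC, ← hσ] at e
        calc Nat.card V * Nat.card (B ⊓ Cfsg.pCore p G : Subgroup G) ≤ _ := hbound
          _ = _ := by rw [← e]; ring
      strict := by
        intro A₁ hA₁ hne hneA
        set B₁ := B ⊓ A₁.comap σ with hB₁
        have hmap : B₁.map σ = A₁ := by
          refine le_antisymm (map_le_iff_le_comap.2 inf_le_right) fun b hb => ?_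
          obtain ⟨a, ha, rfl⟩ := hA₁ hb
          exact ⟨a, ⟨ha, hb⟩, rfl⟩
        have hBQ₁ : B ⊓ Cfsg.pCore p G ≤ B₁ := fun a ha =>
          ⟨ha.1, show σ a ∈ A₁ by rw [(hker a).2 (hQC ha.2)]; exact one_mem _⟩
        have hnot : ¬ B₁ ≤ Cfsg.pCore p G := fun hle => hne (by
          rw [← hmap]
          exact (Subgroup.map_eq_bot_iff _).2 fun g hg' => (hker g).2 (hQC (hle hg')))
        have hlt := hstrict B₁ inf_le_left hBQ₁ hnot fun e => hneA (by rw [← hmap, e])
        have hker₁ : B₁ ⊓ centralizer (V : Set G) = B ⊓ Cfsg.pCore p G :=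
          le_antisymm ((inf_le_inf_right _ inf_le_left).trans hBC.le) (le_inf hBQ₁
            (inf_le_right.trans hQC))
        have e := Offender.card_map_act_mul (V := V) B
        have e₁ := Offender.card_map_act_mul (V := V) B₁
        rw [hBC, ← hσ] at e
        rw [hker₁, ← hσ, hmap] at e₁
        rw [← hmap, Offender.fix_act, Offender.fix_act, Offender.card_emb inf_le_left,
          Offender.card_emb inf_le_left, hmap]
        refine Nat.lt_of_mul_lt_mul_right (a := Nat.card (B ⊓ Cfsg.pCore p G : Subgroup G)) ?_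
        calc _ = Nat.card B₁ * Nat.card (V ⊓ centralizer (B₁ : Set G) : Subgroup G) := by
              rw [← e₁]; ring
          _ < _ := hlt
          _ = _ := by rw [← e]; ring }
  let xb : ↥(L.map σ) := ⟨σ x, mem_map_of_mem σ hxL⟩
  have hxb : xb ∉ Mb := fun hm => hxM (hσM x hm)
  have hW : PMinOff.Off.W₀ (emb V V) (B.map σ) = emb V (V ⊓ centralizer (B : Set G)) :=
    Offender.fix_act B
  have hD : PMinOff.Off.C₀ (emb V V) (L.map σ) = emb V (V ⊓ centralizer (L : Set G)) :=
    Offender.fix_act L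
  have hall : ∀ a : ↥(L.map σ), (a : Offender.Hol V) ∈ B.map σ →
      (a : Offender.Hol V) ∉ (⊥ : Subgroup (Offender.Hol V)) → ∃ y : ↥(L.map σ), y⁻¹ * a * y ∉ Mb := by
    intro a ha ha1
    obtain ⟨b, hb, hba⟩ := ha
    refine ⟨xb, fun hm => ?_⟩
    have hbQ : b ∉ Cfsg.pCore p G := fun hq =>
      ha1 (mem_bot.2 (hba ▸ (hker b).2 (hQC hq)))
    have hm' : σ (x⁻¹ * b * x) ∈ M.map σ := by
      rw [map_mul, map_mul, map_inv, hba]
      exact hm
    refine h.conj_notMem (hBS hb) hbQ (g := x⁻¹) (fun hh => hxM (inv_mem_iff.mp hh)) ?_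
    rw [inv_inv]
    exact hσM _ hm'
  have hzW : z ∈ V ⊓ centralizer (B : Set G) :=
    ⟨hg.hzV, Subgroup.centralizer_le hBS hg.hzS⟩
  have hu : SemidirectProduct.inl (⟨x * z * x⁻¹, hg.hVn.conj_mem z hg.hzV x⟩ : V) ∈
      cj (xb : Offender.Hol V) (PMinOff.Off.W₀ (emb V V) (B.map σ)) := by
    rw [hW, mem_cj]
    refine ⟨⟨z, hg.hzV⟩, hzW, ?_⟩
    rw [← Offender.act_conj x ⟨z, hg.hzV⟩]
    show _ = (σ x)⁻¹ * _ * σ x
    rw [← hσ]
    group
  have huW : SemidirectProduct.inl (⟨x * z * x⁻¹, hg.hVn.conj_mem z hg.hzV x⟩ : V) ∉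
      PMinOff.Off.W₀ (emb V V) (B.map σ) := by
    intro hm
    have h1 := hO.meet_one hxb ⟨hm, hu⟩
    rw [hD, Offender.inl_mem_emb] at h1
    have hxc : x⁻¹ * (x * z * x⁻¹) = (x * z * x⁻¹) * x⁻¹ :=
      mem_centralizer_iff.1 h1.2 x⁻¹ (L.inv_mem hxL)
    have hzx : z * x = x * z := by
      have := congrArg (fun t => x * t * x * x) hxc
      simpa [mul_assoc] using this
    have hC : x ∈ centralizer ({z} : Set G) := mem_centralizer_singleton_iff.2 hzx.symm
    have := h.eq_top_of_not_le (H := centralizer ({z} : Set G)) (fun s hs =>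
      mem_centralizer_singleton_iff.2 (mem_centralizer_iff.1 hg.hzS s hs)) fun hle => hxM (hle hC)
    exact hg.hzG (mem_center_iff.2 fun g =>
      mem_centralizer_singleton_iff.1 (this.ge (mem_top g)))
  obtain ⟨hcard, hU, hreg, -, -⟩ := hO.core hxb hall hu huW
  refine ⟨?_, ?_, ?_, ?_⟩
  · rw [hW, hD, Offender.card_emb inf_le_left, Offender.card_emb inf_le_left] at hcard
    have e := Offender.card_map_act_mul (V := V) B
    rw [hBC, ← hσ] at e
    rw [hcard, ← e]
    ring
  · intro v hv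
    obtain ⟨a, ha, b, hb, hab⟩ := PMinOff.exists_mul_of_mem_sup hO.hVc inf_le_left (hO.cj_le_V xb)
      (show (SemidirectProduct.inl (⟨v, hv⟩ : V) : Offender.Hol V) ∈
        PMinOff.Off.W₀ (emb V V) (B.map σ) ⊔ cj (xb : Offender.Hol V) (PMinOff.Off.W₀ (emb V V) (B.map σ)) from
        hU.symm ▸ Offender.inl_mem_emb.2 hv)
    replace ha : a ∈ emb V (V ⊓ centralizer (B : Set G)) := (Offender.fix_act B).le ha
    rw [hW, mem_cj] at hb
    obtain ⟨w, hw, rfl⟩ := ha
    obtain ⟨w', hw', hw'e⟩ := hb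
    have hb' : b = SemidirectProduct.inl ⟨x * (w' : G) * x⁻¹, hg.hVn.conj_mem _ w'.2 x⟩ := by
      rw [← Offender.act_conj x w', hw'e]
      show b = σ x * ((σ x)⁻¹ * b * σ x) * (σ x)⁻¹
      group
    rw [hb', ← map_mul] at hab
    exact ⟨w, hw, w', hw', congrArg Subtype.val (SemidirectProduct.inl_injective hab)⟩
  · intro a ha haQ v hv hc
    have ha1 : σ a ≠ 1 := fun e => haQ (hg.hQ.le ⟨hBS ha, (hker a).1 e⟩)
    have h1 := hreg (σ a) (mem_map_of_mem σ ha) ha1 (SemidirectProduct.inl ⟨v, hv⟩)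
      (Offender.inl_mem_emb.2 hv) (by
        rw [hσ, Offender.act_conj, ← map_inv, ← map_mul, hD, Offender.inl_mem_emb]
        exact hc)
    rw [hW, Offender.inl_mem_emb] at h1
    exact h1
  · intro a ha v hv
    have h1 := hO.quad (mem_map_of_mem σ ha) (Offender.inl_mem_emb.2 hv :
      (SemidirectProduct.inl (⟨v, hv⟩ : V) : Offender.Hol V) ∈ emb V V)
    rw [hσ, Offender.act_conj, ← map_inv, ← map_mul, Offender.fix_act, Offender.inl_mem_emb] at h1
    exact h1

end Ground

end Cfsg.Agent.PushRankOne
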