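import Cfsg.Prelude.Def_BaumannBlocks
import Cfsg.Agent.PushRankOne.PSL
import Cfsg.Agent.Core.PCore
import Cfsg.Agent.SylowNumber.Formula

/-!
# The rank-one pushing-up situation
-/

set_option autoImplicit false
set_option linter.unusedSectionVars false

namespace Cfsg.Agent.PushRankOne

open Subgroup

variable {G : Type*} [Group G] [Finite G] {p : ℕ} [Fact p.Prime]

/-- The data used: `S` is Sylow, `M` its unique maximal overgroup, and modulo `K` the Sylow
`p`-subgroups are elementary abelian, trivially intersecting and not normal. -/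
structure Setup₀ (p : ℕ) (S : Sylow p G) (M K : Subgroup G) : Prop where
  hM : IsCoatom M
  hSM : (S : Subgroup G) ≤ M
  huniq : ∀ M' : Subgroup G, IsCoatom M' → (S : Subgroup G) ≤ M' → M' = M
  hK : K.Normal
  comm : ∀ a ∈ (S : Subgroup G), ∀ b ∈ (S : Subgroup G), a * b * (b * a)⁻¹ ∈ K
  pow : ∀ a ∈ (S : Subgroup G), a ^ p ∈ K
  ti : ∀ g a : G, a ∈ (S : Subgroup G) → a ∉ K → g⁻¹ * a * g ∈ (S : Subgroup G) →
    g ∈ normalizer (((S : Subgroup G) ⊔ K : Subgroup G) : Set G)
  notNormal : ¬ ((S : Subgroup G) ⊔ K).Normal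

/-- `Setup₀` together with the constraint on `O_p(G)`. -/
structure Setup (p : ℕ) (S : Sylow p G) (M K : Subgroup G) : Prop extends Setup₀ p S M K where
  hC : centralizer (Cfsg.pCore p G : Set G) ≤ Cfsg.pCore p G

theorem setup_of_iso (S : Sylow p G) (hC : centralizer (Cfsg.pCore p G : Set G) ≤ Cfsg.pCore p G)
    (h2 : ∃! M : Subgroup G, IsCoatom M ∧ (S : Subgroup G) ≤ M) (K : Subgroup G) [K.Normal]
    (F : Type*) [Field F] [Fintype F] (n : ℕ) (hF : Fintype.card F = p ^ n)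
    (hiso : Nonempty (G ⧸ K ≃* Matrix.ProjectiveSpecialLinearGroup (Fin 2) F)) :
    ∃ M, Setup p S M K := by
  haveI : CharP F p := charP_of_card_eq_prime_pow hF
  obtain ⟨e⟩ := hiso
  obtain ⟨M, ⟨hM, hSM⟩, huniq⟩ := h2
  obtain ⟨hab, hti, P, Q, hPQ⟩ := psl_sylow (F := F) p
  let f : G →* Matrix.ProjectiveSpecialLinearGroup (Fin 2) F :=
    e.toMonoidHom.comp (QuotientGroup.mk' K)
  have hf : Function.Surjective f := e.surjective.comp (QuotientGroup.mk'_surjective K)
  have hker : ∀ x, f x = 1 ↔ x ∈ K := fun x => by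
    show e (QuotientGroup.mk x) = 1 ↔ _
    rw [map_eq_one_iff e e.injective, QuotientGroup.eq_one_iff]
  let R := S.mapSurjective (f := f) hf
  have hR : ∀ x, f x ∈ (R : Subgroup (Matrix.ProjectiveSpecialLinearGroup (Fin 2) F)) ↔
      x ∈ (S : Subgroup G) ⊔ K := fun x => by
    show f x ∈ (S : Subgroup G).map f ↔ _
    rw [← Subgroup.mem_comap, Subgroup.comap_map_eq]
    rw [show f.ker = K from Subgroup.ext hker]
  have hmem : ∀ a ∈ (S : Subgroup G), f a ∈ (R : Subgroup (Matrix.ProjectiveSpecialLinearGroup (Fin 2) F)) :=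
    fun a ha => (hR a).2 (mem_sup_left ha)
  have hnorm : ∀ g, f g • R = R → g ∈ normalizer (((S : Subgroup G) ⊔ K : Subgroup G) : Set G) := by
    intro g hg
    refine mem_normalizer_iff.2 fun x => ?_
    rw [← hR, ← hR, map_mul, map_mul, map_inv]
    conv_rhs => rw [← hg, Sylow.coe_subgroup_smul]
    constructor
    · exact fun h => ⟨f x, h, rfl⟩
    · rintro ⟨y, hy, he⟩
      have : y = f x := (MulAut.conj (f g)).injective he
      exact this ▸ hy
  refine ⟨M, ⟨⟨hM, hSM, fun M' h h' => huniq M' ⟨h, h'⟩, inferInstance, ?_, ?_, ?_, ?_⟩, hC⟩⟩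
  · intro a ha b hb
    rw [← hker, map_mul, map_inv, map_mul, map_mul,
      (hab R _ (hmem a ha) _ (hmem b hb)).1, mul_inv_cancel]
  · intro a ha
    rw [← hker, map_pow]
    exact (hab R _ (hmem a ha) _ (hmem a ha)).2
  · intro g a ha haK hga
    refine hnorm g (by_contra fun hne => haK ((hker a).1 ?_))
    refine hti R (f g • R) (Ne.symm hne) _ (hmem a ha) ?_
    rw [Sylow.coe_subgroup_smul]
    refine ⟨f (g⁻¹ * a * g), hmem _ hga, ?_⟩
    show f g * f (g⁻¹ * a * g) * (f g)⁻¹ = f a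
    rw [map_mul, map_mul, map_inv]
    group
  · intro hn
    obtain ⟨g₁, hg₁⟩ := MulAction.exists_smul_eq (Matrix.ProjectiveSpecialLinearGroup (Fin 2) F) R P
    obtain ⟨g₂, hg₂⟩ := MulAction.exists_smul_eq (Matrix.ProjectiveSpecialLinearGroup (Fin 2) F) R Q
    have hfix : ∀ g, g • R = R := fun g => by
      obtain ⟨g₀, rfl⟩ := hf g
      refine Sylow.ext ?_
      rw [Sylow.coe_subgroup_smul]
      ext y
      constructor
      · rintro ⟨z, hz, rfl⟩
        obtain ⟨z₀, hz₀, rfl⟩ := hz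
        show f g₀ * f z₀ * (f g₀)⁻¹ ∈ _
        rw [← map_inv, ← map_mul, ← map_mul]
        exact (hR _).2 (hn.conj_mem _ (mem_sup_left hz₀) g₀)
      · intro hy
        obtain ⟨y₀, rfl⟩ := hf y
        refine ⟨f (g₀⁻¹ * y₀ * g₀), (hR _).2 ?_, ?_⟩
        · simpa using hn.conj_mem _ ((hR _).1 hy) g₀⁻¹
        · show f g₀ * f (g₀⁻¹ * y₀ * g₀) * (f g₀)⁻¹ = f y₀
          rw [map_mul, map_mul, map_inv]
          group
    exact hPQ (by rw [← hg₁, ← hg₂, hfix, hfix])

variable {S : Sylow p G} {M K : Subgroup G} (h : Setup₀ p S M K)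

namespace Setup₀

include h

theorem eq_top_of_not_le {H : Subgroup G} (hS : (S : Subgroup G) ≤ H) (hH : ¬ H ≤ M) : H = ⊤ := by
  rcases eq_top_or_exists_le_coatom H with e | ⟨M', hM', hle⟩
  · exact e
  · exact absurd (h.huniq M' hM' (hS.trans hle) ▸ hle) hH

theorem K_le : K ≤ M := by
  by_contra hKM
  refine h.notNormal ?_
  rw [h.eq_top_of_not_le le_sup_left fun hle => hKM (le_sup_right.trans hle)]
  infer_instance

theorem normal_inf_le {N : Subgroup G} [hN : N.Normal] (hNM : N ≤ M) :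
    (S : Subgroup G) ⊓ N ≤ Cfsg.pCore p G := by
  haveI hn : ((S : Subgroup G) ⊓ N).Normal := by
    rw [← normalizer_eq_top_iff]
    by_contra hne
    obtain ⟨R, hR⟩ := Cfsg.Agent.SylowNumber.exists_sylow_inf S N
    have hf := Sylow.normalizer_sup_eq_top R
    rw [show (R : Subgroup N).map N.subtype = (S : Subgroup G) ⊓ N by
      rw [hR, subgroupOf_map_subtype, inf_assoc, inf_idem]] at hf
    have hT : (S : Subgroup G) ≤ normalizer (((S : Subgroup G) ⊓ N : Subgroup G) : Set G) :=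
      Subgroup.le_normalizer_iff.mpr fun t ht r hr => Subgroup.mem_inf.mpr
        ⟨mul_mem (mul_mem ht (Subgroup.mem_inf.mp hr).1) (inv_mem ht),
          hN.conj_mem r (Subgroup.mem_inf.mp hr).2 t⟩
    have hle : normalizer (((S : Subgroup G) ⊓ N : Subgroup G) : Set G) ≤ M :=
      by_contra fun hnot => hne (h.eq_top_of_not_le hT hnot)
    exact h.hM.1 (top_le_iff.mp (hf ▸ sup_le hle hNM))
  exact Core.le_pCore (S.2.to_le inf_le_left)

theorem normalizer_le : normalizer (((S : Subgroup G) ⊔ K : Subgroup G) : Set G) ≤ M :=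
  by_contra fun hnot => h.notNormal (normalizer_eq_top_iff.mp
    (h.eq_top_of_not_le (le_sup_left.trans le_normalizer) hnot))

theorem pCore_eq : Cfsg.pCore p G = (S : Subgroup G) ⊓ K := by
  haveI := h.hK
  refine le_antisymm (le_inf (Core.pCore_le_sylow S) fun a ha => ?_) (h.normal_inf_le h.K_le)
  by_contra haK
  refine h.hM.1 (top_le_iff.mp fun g _ => h.normalizer_le (h.ti g a (Core.pCore_le_sylow S ha) haK ?_))
  have hn : (Cfsg.pCore p G).Normal := inferInstance
  exact Core.pCore_le_sylow S (by simpa using hn.conj_mem a ha g⁻¹)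

theorem mem_of_conj {g a : G} (ha : a ∈ (S : Subgroup G)) (haQ : a ∉ Cfsg.pCore p G)
    (hga : g⁻¹ * a * g ∈ (S : Subgroup G)) : g ∈ M :=
  h.normalizer_le (h.ti g a ha (fun haK => haQ (h.pCore_eq.ge ⟨ha, haK⟩)) hga)

/-- A `p`-element outside `O_p(G)` has no conjugate in `M` by an element outside `M`. -/
theorem conj_notMem {g a : G} (ha : a ∈ (S : Subgroup G)) (haQ : a ∉ Cfsg.pCore p G) (hg : g ∉ M) :
    g * a * g⁻¹ ∉ M := by
  intro hm
  obtain ⟨k, hk⟩ : ∃ k : ℕ, a ^ p ^ k = 1 := by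
    obtain ⟨k, hk⟩ := S.2 ⟨a, ha⟩
    exact ⟨k, by simpa using congrArg Subtype.val hk⟩
  have hp : IsPGroup p (zpowers (⟨g * a * g⁻¹, hm⟩ : M)) :=
    IsPGroup.iff_card.2 (by
      rw [Nat.card_zpowers]
      obtain ⟨j, -, hj⟩ := (Nat.dvd_prime_pow (Fact.out : p.Prime)).1
        (orderOf_dvd_of_pow_eq_one (x := (⟨g * a * g⁻¹, hm⟩ : M)) (n := p ^ k)
          (Subtype.ext (by
            rw [Subgroup.coe_pow, Subgroup.coe_one]
            show (g * a * g⁻¹) ^ p ^ k = 1
            rw [conj_pow, hk, mul_one, mul_inv_cancel])))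
      exact ⟨j, hj⟩)
  obtain ⟨P, hP⟩ := hp.exists_le_sylow
  obtain ⟨m, hm'⟩ := MulAction.exists_smul_eq M (S.subtype h.hSM) P
  have hmem := hP (mem_zpowers _)
  rw [← hm', Sylow.coe_subgroup_smul] at hmem
  obtain ⟨s, hs, he⟩ := hmem
  have hs' : (s : G) ∈ (S : Subgroup G) := hs
  have he' : (m : G) * s * (m : G)⁻¹ = g * a * g⁻¹ := congrArg Subtype.val he
  have h1 : g⁻¹ * (m : G) ∈ M := by
    refine h.mem_of_conj ha haQ ?_
    rw [show (g⁻¹ * (m : G))⁻¹ * a * (g⁻¹ * (m : G)) = (m : G)⁻¹ * (g * a * g⁻¹) * m by group, ← he']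
    simpa [mul_assoc] using hs'
  have h2 := M.mul_mem h1 (inv_mem m.2)
  rw [mul_inv_cancel_right] at h2
  exact hg (inv_mem_iff.mp h2)

end Setup₀

end Cfsg.Agent.PushRankOne
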